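import Mathlib
import Cfsg.Agent.S2507
import Cfsg.Agent.S2508
import Cfsg.Agent.S2238
import Cfsg.Agent.Suz.Group
import Cfsg.Agent.Suz.SylowAut
import Cfsg.Agent.Classical.Misc.SmallPSL

/-!
# Three primes no two of which divide the order of one element
-/

set_option autoImplicit false
set_option linter.unusedSectionVars false
set_option linter.style.haveILetI false

namespace Cfsg.Lib.ItoRankTwo

open Subgroup

universe u v

/-- two odd primes and `2` dividing the order, pairwise never dividing the order of one element -/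
def ThreePrimes (K : Type u) [Group K] : Prop :=
  ∃ p r : ℕ, p.Prime ∧ r.Prime ∧ p ≠ 2 ∧ r ≠ 2 ∧ p ≠ r ∧ p ∣ Nat.card K ∧ r ∣ Nat.card K ∧ 2 ∣ Nat.card K ∧
    ∀ z : K, ¬ p * r ∣ orderOf z ∧ ¬ 2 * p ∣ orderOf z ∧ ¬ 2 * r ∣ orderOf z

theorem ThreePrimes.of_equiv {K : Type u} {L : Type v} [Group K] [Group L] (e : K ≃* L) (h : ThreePrimes L) :
    ThreePrimes K := by
  obtain ⟨p, r, hp, hr, hp2, hr2, hpr, hpc, hrc, h2, hz⟩ := h
  rw [← Nat.card_congr e.toEquiv] at hpc hrc h2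
  exact ⟨p, r, hp, hr, hp2, hr2, hpr, hpc, hrc, h2, fun z => by rw [← e.orderOf_eq]; exact hz (e z)⟩

/-- from the orders of centralisers -/
theorem threePrimes_of_cent {K : Type u} [Group K] [Finite K] {p r : ℕ} (hp : p.Prime) (hr : r.Prime)
    (hp2 : p ≠ 2) (hr2 : r ≠ 2) (hpr : p ≠ r) (hpc : p ∣ Nat.card K) (hrc : r ∣ Nat.card K) (h2 : 2 ∣ Nat.card K)
    (h : ∀ z : K, z ≠ 1 → ∀ c, c = Nat.card (centralizer ({z} : Set K)) →
      ¬ (p ∣ c ∧ r ∣ c) ∧ ¬ (2 ∣ c ∧ p ∣ c) ∧ ¬ (2 ∣ c ∧ r ∣ c)) : ThreePrimes K := by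
  refine ⟨p, r, hp, hr, hp2, hr2, hpr, hpc, hrc, h2, fun z => ?_⟩
  by_cases hz : z = 1
  · subst hz
    rw [orderOf_one]
    exact ⟨fun e => hp.ne_one (Nat.dvd_one.1 ((dvd_mul_right _ _).trans e)),
      fun e => hp.ne_one (Nat.dvd_one.1 ((dvd_mul_left _ _).trans e)),
      fun e => hr.ne_one (Nat.dvd_one.1 ((dvd_mul_left _ _).trans e))⟩
  obtain ⟨h1, h2', h3⟩ := h z hz _ rfl
  have hd : orderOf z ∣ Nat.card (centralizer ({z} : Set K)) := by
    rw [← Nat.card_zpowers]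
    exact card_dvd_of_le (zpowers_le.2 (mem_centralizer_singleton_iff.2 rfl))
  exact ⟨fun e => h1 ⟨(dvd_mul_right _ _).trans (e.trans hd), (dvd_mul_left _ _).trans (e.trans hd)⟩,
    fun e => h2' ⟨(dvd_mul_right _ _).trans (e.trans hd), (dvd_mul_left _ _).trans (e.trans hd)⟩,
    fun e => h3 ⟨(dvd_mul_right _ _).trans (e.trans hd), (dvd_mul_left _ _).trans (e.trans hd)⟩⟩

theorem not_dvd_both {l a b : ℕ} (hl : l.Prime) (h : Nat.gcd a b ∣ 2) (hl2 : l ≠ 2) (ha : l ∣ a) : ¬ l ∣ b :=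
  fun hb => hl2 ((Nat.prime_dvd_prime_iff_eq hl Nat.prime_two).1 ((Nat.dvd_gcd ha hb).trans h))

theorem gcd_two {a b : ℕ} (h : b = a + 2 ∨ a = b + 2) : Nat.gcd a b ∣ 2 := by
  rcases h with rfl | rfl
  · exact (Nat.dvd_add_right (Nat.gcd_dvd_left a (a + 2))).1 (Nat.gcd_dvd_right a (a + 2))
  · exact (Nat.dvd_add_right (Nat.gcd_dvd_right (b + 2) b)).1 (Nat.gcd_dvd_left (b + 2) b)

/-- `PSL(2, q)` with `q` a power of two -/
theorem psl_even {F : Type u} [Field F] [Fintype F] (h2 : 2 ∣ Fintype.card F) (h4 : 4 ≤ Fintype.card F) :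
    ThreePrimes (Matrix.ProjectiveSpecialLinearGroup (Fin 2) F) := by
  obtain ⟨n, hn⟩ : ∃ n, n = Fintype.card F := ⟨_, rfl⟩
  obtain ⟨k, hk⟩ : Even n := hn ▸ even_iff_two_dvd.2 h2
  obtain ⟨m, hm⟩ : ∃ m, n = m + 1 := ⟨n - 1, by omega⟩
  have hL := Cfsg.Lib.Classical.SmallPSL.card_psl (F := F) hn.symm
  rw [show Nat.gcd 2 (n - 1) = 1 by
    rcases (Nat.dvd_prime Nat.prime_two).1 (Nat.gcd_dvd_left 2 (n - 1)) with h | h
    · exact h
    · have := Nat.gcd_dvd_right 2 (n - 1)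
      rw [h] at this
      omega, one_mul] at hL
  have hsq : n ^ 2 - 1 = (n + 1) * m := by
    rw [hm, show (m + 1) ^ 2 = (m + 1 + 1) * m + 1 by ring]
    exact Nat.add_sub_cancel _ _
  rw [hsq] at hL
  obtain ⟨p, hp, hpd⟩ := Nat.exists_prime_and_dvd (n := m) (by omega)
  obtain ⟨r, hr, hrd⟩ := Nat.exists_prime_and_dvd (n := n + 1) (by omega)
  have hp2 : p ≠ 2 := fun e => by rw [e] at hpd; omega
  have hr2 : r ≠ 2 := fun e => by rw [e] at hrd; omega
  have hg := gcd_two (a := m) (b := n + 1) (Or.inl (by omega))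
  have hpr : p ≠ r := fun e => not_dvd_both hp hg hp2 hpd (e ▸ hrd)
  have hne : ∀ {l : ℕ}, l.Prime → l ≠ 2 → (l ∣ m ∨ l ∣ n + 1) → ¬ l ∣ n := by
    intro l hl hl2 h hln
    rcases h with h | h
    · have := (Nat.dvd_add_right h).1 (hm ▸ hln); exact hl.ne_one (Nat.dvd_one.1 this)
    · have := (Nat.dvd_add_right hln).1 h; exact hl.ne_one (Nat.dvd_one.1 this)
  refine threePrimes_of_cent hp hr hp2 hr2 hpr (hL ▸ (hpd.mul_left _).mul_left _)
    (hL ▸ (hrd.mul_right _).mul_left _) (hL ▸ (dvd_mul_of_dvd_left ⟨k, by omega⟩ _)) fun z hz c hc => ?_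
  have hr' := Cfsg.Agent.S2507.result (F := F) h2 h4
  have hmem := (Set.ext_iff.1 hr' _).1 ⟨z, rfl⟩
  simp only [Set.mem_insert_iff, Set.mem_singleton_iff] at hmem
  have hi := (centralizer ({z} : Set (Matrix.ProjectiveSpecialLinearGroup (Fin 2) F))).index_mul_card
  rw [← hc, hL] at hi
  rw [← hn, hsq, show n - 1 = m by omega] at hmem
  rcases hmem with h | h | h | h <;> rw [h] at hi
  · exfalso
    have hcz : z ∈ center _ := mem_center_iff.2 fun g =>
      mem_centralizer_singleton_iff.1 (index_eq_one.1 h ▸ mem_top g)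
    obtain ⟨z', hz'⟩ := (Set.ext_iff.1 hr' (n * (n - 1))).2 (by rw [← hn]; exact Or.inr (Or.inl rfl))
    obtain ⟨z'', hz''⟩ := (Set.ext_iff.1 hr' (n * (n + 1))).2 (by rw [← hn]; simp)
    have h1 := Subgroup.orderOf_dvd_natCard _ (center_le_centralizer ({z'} : Set _) hcz)
    have h2 := Subgroup.orderOf_dvd_natCard _ (center_le_centralizer ({z''} : Set _) hcz)
    have e1 := (centralizer ({z'} : Set (Matrix.ProjectiveSpecialLinearGroup (Fin 2) F))).index_mul_card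
    have e2 := (centralizer ({z''} : Set (Matrix.ProjectiveSpecialLinearGroup (Fin 2) F))).index_mul_card
    simp only [show n - 1 = m by omega] at hz' hz''
    rw [hz', hL] at e1
    rw [hz'', hL] at e2
    have c1 := Nat.eq_of_mul_eq_mul_left (show 0 < n * m by positivity [show 0 < n by omega, show 0 < m by omega])
      (e1.trans (by ring : n * ((n + 1) * m) = n * m * (n + 1)))
    have c2 := Nat.eq_of_mul_eq_mul_left (show 0 < n * (n + 1) by positivity [show 0 < n by omega])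
      (e2.trans (by ring : n * ((n + 1) * m) = n * (n + 1) * m))
    rw [c1] at h1
    rw [c2] at h2
    rcases (Nat.dvd_prime Nat.prime_two).1 ((Nat.dvd_gcd h2 h1).trans hg) with e | e
    · exact hz (orderOf_eq_one_iff.1 e)
    · rw [e] at h2; omega
  · have : c = n + 1 := Nat.eq_of_mul_eq_mul_left (show 0 < n * m from Nat.mul_pos (by omega) (by omega))
      (hi.trans (by ring))
    subst this
    exact ⟨fun e => not_dvd_both hp hg hp2 hpd e.1, fun e => by omega, fun e => by omega⟩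
  · have : c = n := Nat.eq_of_mul_eq_mul_left (show 0 < (n + 1) * m from Nat.mul_pos (by omega) (by omega))
      (hi.trans (by ring))
    subst this
    exact ⟨fun e => hne hp hp2 (Or.inl hpd) e.1, fun e => hne hp hp2 (Or.inl hpd) e.2,
      fun e => hne hr hr2 (Or.inr hrd) e.2⟩
  · have : c = m := Nat.eq_of_mul_eq_mul_left (show 0 < n * (n + 1) from Nat.mul_pos (by omega) (by omega))
      (hi.trans (by ring))
    subst this
    exact ⟨fun e => not_dvd_both hr hg hr2 e.2 hrd, fun e => by omega, fun e => by omega⟩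

set_option maxHeartbeats 1000000 in
/-- `PSL(2, q)` with `q ≥ 7` odd -/
theorem psl_odd {F : Type u} [Field F] [Fintype F] (hodd : ¬ 2 ∣ Fintype.card F) (h7 : 7 ≤ Fintype.card F) :
    ThreePrimes (Matrix.ProjectiveSpecialLinearGroup (Fin 2) F) := by
  obtain ⟨n, hn⟩ : ∃ n, n = Fintype.card F := ⟨_, rfl⟩
  obtain ⟨k, hk⟩ : Odd n := by rw [hn, ← Nat.not_even_iff_odd, even_iff_two_dvd]; exact hodd
  have hL := Cfsg.Lib.Classical.SmallPSL.card_psl (F := F) hn.symm
  rw [show Nat.gcd 2 (n - 1) = 2 from Nat.gcd_eq_left ⟨k, by omega⟩,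
    show n ^ 2 - 1 = 2 * (2 * k * (k + 1)) by rw [hk]; ring_nf; omega] at hL
  have hL' : Nat.card (Matrix.ProjectiveSpecialLinearGroup (Fin 2) F) = n * (2 * k * (k + 1)) :=
    Nat.eq_of_mul_eq_mul_left two_pos (hL.trans (by ring))
  obtain ⟨p, hp, hpd⟩ := Nat.exists_prime_and_dvd (n := n) (by omega)
  obtain ⟨o, e, ho, ho2, ho3⟩ : ∃ o e, ((o = k ∧ e = k + 1) ∨ (o = k + 1 ∧ e = k)) ∧ ¬ 2 ∣ o ∧ 3 ≤ o := by
    by_cases h : 2 ∣ k
    · exact ⟨k + 1, k, Or.inr ⟨rfl, rfl⟩, by omega, by omega⟩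
    · exact ⟨k, k + 1, Or.inl ⟨rfl, rfl⟩, h, by omega⟩
  obtain ⟨r, hr, hrd⟩ := Nat.exists_prime_and_dvd (n := o) (by omega)
  have hp2 : p ≠ 2 := fun h => by rw [h] at hpd; omega
  have hr2 : r ≠ 2 := fun h => ho2 (h ▸ hrd)
  have hco : ∀ l : ℕ, l.Prime → l ∣ n → ¬ l ∣ 2 * k ∧ ¬ l ∣ 2 * (k + 1) := by
    intro l hl hln
    constructor <;> intro h
    · rw [hk] at hln; exact hl.ne_one (Nat.dvd_one.1 ((Nat.dvd_add_right h).1 hln))
    · rw [show 2 * (k + 1) = n + 1 by omega] at h; exact hl.ne_one (Nat.dvd_one.1 ((Nat.dvd_add_right hln).1 h))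
  have hre : ¬ r ∣ 2 * e := by
    intro h
    have h1 := (Nat.Coprime.dvd_of_dvd_mul_left ((Nat.coprime_primes hr Nat.prime_two).2 hr2) h)
    rcases ho with ⟨rfl, rfl⟩ | ⟨rfl, rfl⟩
    · exact hr.ne_one (Nat.dvd_one.1 ((Nat.dvd_add_right hrd).1 h1))
    · exact hr.ne_one (Nat.dvd_one.1 ((Nat.dvd_add_right h1).1 hrd))
  have hpr : p ≠ r := fun h => by
    rcases ho with ⟨rfl, rfl⟩ | ⟨rfl, rfl⟩
    · exact (hco p hp hpd).1 ((h ▸ hrd).mul_left 2)
    · exact (hco p hp hpd).2 ((h ▸ hrd).mul_left 2)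
  have ho' : o ∣ 2 * k * (k + 1) := by
    rcases ho with ⟨rfl, rfl⟩ | ⟨rfl, rfl⟩
    · exact (dvd_mul_left _ 2).mul_right _
    · exact dvd_mul_left _ _
  refine threePrimes_of_cent hp hr hp2 hr2 hpr (hL' ▸ hpd.mul_right _) (hL' ▸ (hrd.trans ho').mul_left _)
    (hL' ▸ ((dvd_mul_right 2 k).mul_right _).mul_left _) fun z hz c hc => ?_
  have hodd' : Fintype.card F % 4 = 1 ∧ 2 ∣ k ∨ Fintype.card F % 4 = 3 ∧ ¬ 2 ∣ k := by omega
  have hr' := Cfsg.Agent.S2508.result (F := F) hodd h7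
  -- the possible orders of centralisers
  have hc' : c = n ∨ c = 2 * e ∨ c = e ∨ c = o := by
    have hi := (centralizer ({z} : Set (Matrix.ProjectiveSpecialLinearGroup (Fin 2) F))).index_mul_card
    rw [← hc, hL'] at hi
    have key : ∀ w : Matrix.ProjectiveSpecialLinearGroup (Fin 2) F,
        (centralizer ({w} : Set (Matrix.ProjectiveSpecialLinearGroup (Fin 2) F))).index ∈
          ({1, 2 * k * (k + 1), n * o, n * (2 * e), n * (2 * o)} : Set ℕ) := by
      intro w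
      rcases hodd' with ⟨h4, hk2⟩ | ⟨h4, hk2⟩
      · have := (Set.ext_iff.1 (hr'.1 h4) _).1 ⟨w, rfl⟩
        obtain ⟨he1, he2⟩ : o = k + 1 ∧ e = k := ho.resolve_left fun h => ho2 (h.1 ▸ hk2)
        subst o; subst e
        simp only [← hn, Set.mem_insert_iff, Set.mem_singleton_iff] at this ⊢
        rw [show (n ^ 2 - 1) / 2 = 2 * k * (k + 1) by rw [hk]; ring_nf; omega,
          show n * (n + 1) / 2 = n * (k + 1) by rw [hk, Nat.mul_div_assoc _ ⟨k + 1, by omega⟩]; congr 1; omega,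
          show n - 1 = 2 * k by omega, show n + 1 = 2 * (k + 1) by omega] at this
        tauto
      · have := (Set.ext_iff.1 (hr'.2 h4) _).1 ⟨w, rfl⟩
        obtain ⟨he1, he2⟩ : o = k ∧ e = k + 1 := ho.resolve_right fun h => ho2 (by omega)
        subst o; subst e
        simp only [← hn, Set.mem_insert_iff, Set.mem_singleton_iff] at this ⊢
        rw [show (n ^ 2 - 1) / 2 = 2 * k * (k + 1) by rw [hk]; ring_nf; omega,
          show n * (n - 1) / 2 = n * k by rw [Nat.mul_div_assoc _ ⟨k, by omega⟩]; congr 1; omega,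
          show n - 1 = 2 * k by omega, show n + 1 = 2 * (k + 1) by omega] at this
        tauto
    have hprod : 2 * k * (k + 1) = 2 * o * e := by
      rcases ho with ⟨rfl, rfl⟩ | ⟨rfl, rfl⟩ <;> ring
    have hmem := key z
    simp only [Set.mem_insert_iff, Set.mem_singleton_iff] at hmem
    have hpos : 0 < n ∧ 0 < e ∧ 0 < o := by omega
    rcases hmem with h | h | h | h | h <;> rw [h] at hi
    · -- a central element
      exfalso
      have hcz : z ∈ center _ := mem_center_iff.2 fun g =>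
        mem_centralizer_singleton_iff.1 (index_eq_one.1 h ▸ mem_top g)
      have hw : ∀ w : Matrix.ProjectiveSpecialLinearGroup (Fin 2) F,
          orderOf z ∣ Nat.card (centralizer ({w} : Set (Matrix.ProjectiveSpecialLinearGroup (Fin 2) F))) :=
        fun w => Subgroup.orderOf_dvd_natCard _ (center_le_centralizer _ hcz)
      obtain ⟨w1, hw1⟩ : ∃ w : Matrix.ProjectiveSpecialLinearGroup (Fin 2) F,
          (centralizer ({w} : Set (Matrix.ProjectiveSpecialLinearGroup (Fin 2) F))).index = (n ^ 2 - 1) / 2 := by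
        rcases hodd' with ⟨h4, -⟩ | ⟨h4, -⟩
        · exact (Set.ext_iff.1 (hr'.1 h4) _).2 (by simp [← hn])
        · exact (Set.ext_iff.1 (hr'.2 h4) _).2 (by simp [← hn])
      obtain ⟨w2, hw2⟩ : ∃ w : Matrix.ProjectiveSpecialLinearGroup (Fin 2) F,
          (centralizer ({w} : Set (Matrix.ProjectiveSpecialLinearGroup (Fin 2) F))).index = n * (n + 1) := by
        rcases hodd' with ⟨h4, -⟩ | ⟨h4, -⟩
        · exact (Set.ext_iff.1 (hr'.1 h4) _).2 (by simp [← hn])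
        · exact (Set.ext_iff.1 (hr'.2 h4) _).2 (by simp [← hn])
      have e1 := (centralizer ({w1} : Set (Matrix.ProjectiveSpecialLinearGroup (Fin 2) F))).index_mul_card
      have e2 := (centralizer ({w2} : Set (Matrix.ProjectiveSpecialLinearGroup (Fin 2) F))).index_mul_card
      rw [hw1, hL', show (n ^ 2 - 1) / 2 = 2 * k * (k + 1) by rw [hk]; ring_nf; omega] at e1
      rw [hw2, hL', show n + 1 = 2 * (k + 1) by omega] at e2
      have c1 := hw w1
      rw [Nat.eq_of_mul_eq_mul_left (show 0 < 2 * k * (k + 1) from Nat.mul_pos (by omega) (by omega))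
        (e1.trans (mul_comm _ _))] at c1
      have c2 := hw w2
      rw [Nat.eq_of_mul_eq_mul_left (show 0 < n * (2 * (k + 1)) from Nat.mul_pos (by omega) (by omega))
        (e2.trans (by ring : n * (2 * k * (k + 1)) = n * (2 * (k + 1)) * k))] at c2
      obtain ⟨l, hl, hld⟩ := Nat.exists_prime_and_dvd (fun h => hz (orderOf_eq_one_iff.1 h))
      exact (hco l hl (hld.trans c1)).1 ((hld.trans c2).mul_left 2)
    · exact Or.inl (Nat.eq_of_mul_eq_mul_left (show 0 < 2 * k * (k + 1) from Nat.mul_pos (by omega) (by omega)) (hi.trans (by ring)))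
    · refine Or.inr (Or.inl (Nat.eq_of_mul_eq_mul_left (show 0 < n * o from Nat.mul_pos (by omega) (by omega)) (hi.trans ?_)))
      rw [hprod]; ring
    · refine Or.inr (Or.inr (Or.inr (Nat.eq_of_mul_eq_mul_left (show 0 < n * (2 * e) from Nat.mul_pos (by omega) (by omega)) (hi.trans ?_))))
      rw [hprod]; ring
    · refine Or.inr (Or.inr (Or.inl (Nat.eq_of_mul_eq_mul_left (show 0 < n * (2 * o) from Nat.mul_pos (by omega) (by omega)) (hi.trans ?_))))
      rw [hprod]; ring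
  have hpe : ¬ p ∣ 2 * e ∧ ¬ p ∣ o := by
    rcases ho with ⟨rfl, rfl⟩ | ⟨rfl, rfl⟩
    · exact ⟨(hco p hp hpd).2, fun h => (hco p hp hpd).1 (h.mul_left 2)⟩
    · exact ⟨(hco p hp hpd).1, fun h => (hco p hp hpd).2 (h.mul_left 2)⟩
  have hrn : ¬ r ∣ n := fun h => by
    rcases ho with ⟨rfl, rfl⟩ | ⟨rfl, rfl⟩
    · exact (hco r hr h).1 (hrd.mul_left 2)
    · exact (hco r hr h).2 (hrd.mul_left 2)
  rcases hc' with h | h | h | h <;> subst h
  · exact ⟨fun h => hrn h.2, fun h => by omega, fun h => hrn h.2⟩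
  · exact ⟨fun h => hre h.2, fun h => hpe.1 h.2, fun h => hre h.2⟩
  · exact ⟨fun h => hre (h.2.mul_left 2), fun h => hpe.1 (h.2.mul_left 2), fun h => hre (h.2.mul_left 2)⟩
  · exact ⟨fun h => hpe.2 h.1, fun h => hpe.2 h.2, fun h => ho2 h.1⟩

theorem alt_five : ThreePrimes (alternatingGroup (Fin 5)) := by
  refine ⟨3, 5, Nat.prime_three, by norm_num, by norm_num, by norm_num, by norm_num, ?_, ?_, ?_, ?_⟩
  · rw [Nat.card_eq_fintype_card]; decide
  · rw [Nat.card_eq_fintype_card]; decide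
  · rw [Nat.card_eq_fintype_card]; decide
  · intro z
    have h : z ^ 2 = 1 ∨ z ^ 3 = 1 ∨ z ^ 5 = 1 := by revert z; decide +kernel
    rcases h with h | h | h <;>
    · have h1 := orderOf_dvd_of_pow_eq_one h
      have h2 := Nat.le_of_dvd (by norm_num) h1
      refine ⟨fun e => ?_, fun e => ?_, fun e => ?_⟩ <;>
      · have h3 := Nat.le_of_dvd (by norm_num) (e.trans h1)
        omega

/-- `PSL(2, q)` for `q ≥ 4` -/
theorem psl {F : Type u} [Field F] [Fintype F] (h4 : 4 ≤ Fintype.card F) :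
    ThreePrimes (Matrix.ProjectiveSpecialLinearGroup (Fin 2) F) := by
  by_cases h2 : 2 ∣ Fintype.card F
  · exact psl_even h2 h4
  by_cases h7 : 7 ≤ Fintype.card F
  · exact psl_odd h2 h7
  obtain ⟨e⟩ := Cfsg.Lib.Classical.SmallPSL.psl_five (F := F) (by omega)
  exact ThreePrimes.of_equiv e alt_five

/-- the Suzuki groups -/
theorem suzuki {F : Type u} [Field F] [Fintype F] {m : ℕ} (hm : 1 ≤ m) (hF : Fintype.card F = 2 ^ (2 * m + 1)) :
    ThreePrimes (Cfsg.Lie.Sz F (2 ^ (m + 1))) := by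
  have Q : Cfsg.Lib.Suz.Par F m := ⟨hm, hF⟩
  refine ThreePrimes.of_equiv (Cfsg.Lib.Suz.lieEquiv Q).symm ?_
  obtain ⟨n, hn⟩ : ∃ n, n = 2 ^ (2 * m + 1) := ⟨_, rfl⟩
  obtain ⟨s, hs⟩ : ∃ s, s = 2 ^ (m + 1) := ⟨_, rfl⟩
  have hss : s * s = 2 * n := by rw [hs, hn, ← pow_add, ← pow_succ']; congr 1; omega
  have hn2 : 2 ∣ n := hn ▸ dvd_pow_self 2 (by omega)
  have hs2 : 2 ∣ s := hs ▸ dvd_pow_self 2 (by omega)
  have hn8 : 8 ≤ n := by
    rw [hn]; exact le_of_eq_of_le (by norm_num) (Nat.pow_le_pow_right two_pos (show 3 ≤ 2 * m + 1 by omega))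
  have hsn : s ≤ n := by rw [hs, hn]; exact Nat.pow_le_pow_right two_pos (by omega)
  have hC := Cfsg.Lib.Suz.card_Sz Q
  rw [← hn] at hC
  have hfac : (n + s + 1) * (n - s + 1) = n ^ 2 + 1 := by
    obtain ⟨d, hd⟩ : ∃ d, n = s + d := ⟨n - s, by omega⟩
    rw [show n - s + 1 = d + 1 by omega, hd]
    subst hd
    nlinarith [hss]
  obtain ⟨p, hp, hpd⟩ := Nat.exists_prime_and_dvd (n := n - 1) (by omega)
  obtain ⟨r, hr, hrd⟩ := Nat.exists_prime_and_dvd (n := n + s + 1) (by omega)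
  have hp2 : p ≠ 2 := fun e => by rw [e] at hpd; omega
  have hr2 : r ≠ 2 := fun e => by rw [e] at hrd; omega
  have hsq : ∀ {l : ℕ}, l.Prime → l ≠ 2 → l ∣ n - 1 → ¬ l ∣ n ^ 2 + 1 := by
    intro l hl hl2 h1 h2
    have h3 : l ∣ n ^ 2 - 1 := h1.trans ⟨n + 1, by
      obtain ⟨d, hd⟩ : ∃ d, n = d + 1 := ⟨n - 1, by omega⟩
      subst hd; simp only [Nat.add_sub_cancel]; ring_nf; omega⟩
    have h4 : 0 < n ^ 2 := pow_pos (by omega) 2
    rw [show n ^ 2 + 1 = (n ^ 2 - 1) + 2 by omega] at h2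
    exact hl2 ((Nat.prime_dvd_prime_iff_eq hl Nat.prime_two).1 ((Nat.dvd_add_right h3).1 h2))
  have hpr : p ≠ r := fun e => hsq hp hp2 hpd (hfac ▸ (e ▸ hrd).mul_right _)
  refine ⟨p, r, hp, hr, hp2, hr2, hpr, ?_, ?_, ?_, fun z => ?_⟩
  · rw [hC]; exact hpd.mul_left _
  · rw [hC]; exact ((hfac ▸ hrd.mul_right _).mul_left _).mul_right _
  · rw [hC]; exact ((hn2.pow two_ne_zero).mul_right _).mul_right _
  by_cases hz : z = 1
  · subst hz
    rw [orderOf_one]
    exact ⟨fun e => hp.ne_one (Nat.dvd_one.1 ((dvd_mul_right _ _).trans e)),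
      fun e => hp.ne_one (Nat.dvd_one.1 ((dvd_mul_left _ _).trans e)),
      fun e => hr.ne_one (Nat.dvd_one.1 ((dvd_mul_left _ _).trans e))⟩
  obtain ⟨U, ⟨hU, hzU⟩, -⟩ := Cfsg.Agent.S2238.result hm hF z hz
  haveI := Fact.mk Nat.prime_two
  rcases hU with ⟨P, rfl⟩ | ⟨-, hU⟩
  · obtain ⟨i, hi⟩ := P.2 ⟨z, hzU⟩
    have hzi : z ^ 2 ^ i = 1 := congrArg Subtype.val hi
    have key : ∀ l : ℕ, l.Prime → l ≠ 2 → ¬ l ∣ orderOf z := fun l hl hl2 e => hl2
      ((Nat.prime_dvd_prime_iff_eq hl Nat.prime_two).1 (hl.dvd_of_dvd_pow (e.trans (orderOf_dvd_of_pow_eq_one hzi))))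
    exact ⟨fun e => key p hp hp2 ((dvd_mul_right _ _).trans e), fun e => key p hp hp2 ((dvd_mul_left _ _).trans e),
      fun e => key r hr hr2 ((dvd_mul_left _ _).trans e)⟩
  · have hd := Subgroup.orderOf_dvd_natCard U hzU
    simp only [Set.mem_insert_iff, Set.mem_singleton_iff, ← hn, ← hs] at hU
    rcases hU with h | h | h <;> rw [h] at hd
    · refine ⟨fun e => hsq hr hr2 ((dvd_mul_left _ _).trans (e.trans hd)) (hfac ▸ hrd.mul_right _), ?_, ?_⟩ <;>
        intro e <;> have := (dvd_mul_right 2 _).trans (e.trans hd) <;> omega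
    · refine ⟨fun e => hsq hp hp2 hpd (hfac ▸ ((dvd_mul_right _ _).trans (e.trans hd)).mul_right _), ?_, ?_⟩ <;>
        intro e <;> have := (dvd_mul_right 2 _).trans (e.trans hd) <;> omega
    · refine ⟨fun e => hsq hp hp2 hpd (hfac ▸ ((dvd_mul_right _ _).trans (e.trans hd)).mul_left _), ?_, ?_⟩ <;>
        intro e <;> have := (dvd_mul_right 2 _).trans (e.trans hd) <;> omega

end Cfsg.Lib.ItoRankTwo
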