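import Cfsg.Agent.ItoRankTwo.Nested
import Cfsg.Agent.ItoRankTwo.ThreePrimes
import Cfsg.Agent.S4248
import Cfsg.Agent.S4249
import Cfsg.Agent.S0035
import Cfsg.Agent.S0042
import Cfsg.Agent.S0068

/-!
# Conjugate rank two: no centraliser properly contained in another one
-/

set_option autoImplicit false
set_option linter.unusedSectionVars false
set_option linter.style.haveILetI false

namespace Cfsg.Lib.ItoRankTwo

open Subgroup
open scoped Pointwise

universe u v

variable {G : Type u} [Group G] [Finite G] {cs cl : ℕ}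

theorem ne_one_iff {g : G} : QuotientGroup.mk' (center G) g ≠ 1 ↔ g ∉ center G := by
  rw [Ne, QuotientGroup.mk'_apply, QuotientGroup.eq_one_iff]

/-- the order of a centraliser determines that of its image modulo the centre -/
theorem card_image (g : G) :
    Nat.card ((centralizer ({g} : Set G)).map (QuotientGroup.mk' (center G))) * Nat.card (center G) =
      Nat.card (centralizer ({g} : Set G)) := by
  set K := centralizer ({g} : Set G)
  set π := QuotientGroup.mk' (center G)
  have h1 : (K.map π).index = K.index :=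
    index_map_eq _ (QuotientGroup.mk'_surjective _) (by
      rw [QuotientGroup.ker_mk']; exact center_le_centralizer _)
  have h2 := (K.map π).index_mul_card
  have h3 := K.index_mul_card
  have h4 := Subgroup.card_eq_card_quotient_mul_card_subgroup (center G)
  rw [← h2, h1, ← h3, mul_assoc] at h4
  exact (Nat.eq_of_mul_eq_mul_left (Nat.pos_of_ne_zero index_ne_zero_of_finite) h4).symm

/-- three independent primes in an odd-covered subgroup of the central quotient give three sizes -/
theorem Sizes.no_three (S : Sizes G cs cl) {K : Type v} [Group K] [Finite K] (φ : K →* G ⧸ center G)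
    (hinj : Function.Injective φ) (hodd : ∀ z : G ⧸ center G, Odd (orderOf z) → z ∈ φ.range)
    (hK : ThreePrimes K) : False := by
  obtain ⟨p, r, hp, hr, hp2, hr2, hpr, hpc, hrc, h2, hz⟩ := hK
  haveI := Fact.mk hp
  haveI := Fact.mk hr
  haveI := Fact.mk Nat.prime_two
  obtain ⟨x, hx⟩ := exists_prime_orderOf_dvd_card' (G := K) p hpc
  obtain ⟨y, hy⟩ := exists_prime_orderOf_dvd_card' (G := K) r hrc
  obtain ⟨w, hw⟩ := exists_prime_orderOf_dvd_card' (G := K) 2 h2
  have hcl : ∀ (u : K) (l l' : ℕ), l.Prime → l'.Prime → l' ≠ 2 → l ≠ l' → orderOf u = l →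
      (∀ z : K, ¬ l * l' ∣ orderOf z) →
      ¬ l' ∣ Nat.card (centralizer ({φ u} : Set (G ⧸ center G))) := by
    intro u l l' hl hl' hl'2 hne hu hfree hd
    haveI := Fact.mk hl'
    obtain ⟨c, hc⟩ := exists_prime_orderOf_dvd_card' (G := centralizer ({φ u} : Set (G ⧸ center G))) l' hd
    rw [← Subgroup.orderOf_coe] at hc
    obtain ⟨c', hc'⟩ := hodd (c : G ⧸ center G) (hc ▸ hl'.odd_of_ne_two hl'2)
    have hcomm : Commute u c' := hinj (by
      rw [map_mul, map_mul, hc']
      exact (mem_cen.1 c.2).eq.symm)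
    have hco : orderOf c' = l' := by rw [← orderOf_injective φ hinj c', hc', hc]
    refine hfree (u * c') ?_
    rw [hcomm.orderOf_mul_eq_mul_orderOf_of_coprime (by rw [hu, hco]; exact (Nat.coprime_primes hl hl').2 hne),
      hu, hco]
  set π := QuotientGroup.mk' (center G)
  have key : ∀ u : K, u ≠ 1 → ∃ g : G, g ∉ center G ∧
      orderOf u ∣ Nat.card ((centralizer ({g} : Set G)).map π) ∧
      Nat.card ((centralizer ({g} : Set G)).map π) ∣ Nat.card (centralizer ({φ u} : Set (G ⧸ center G))) := by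
    intro u hu
    obtain ⟨g, hg⟩ := QuotientGroup.mk'_surjective (center G) (φ u)
    refine ⟨g, ne_one_iff.1 ?_, ?_, card_dvd_of_le ?_⟩
    · rw [hg]; exact fun e => hu (hinj (e.trans (map_one φ).symm))
    · rw [← orderOf_injective φ hinj u, ← hg]
      exact Subgroup.orderOf_dvd_natCard _ (mem_map_of_mem π (mem_cen.2 (Commute.refl g)))
    · rw [← hg]
      rintro _ ⟨c, hc, rfl⟩
      exact mem_cen.2 ((mem_cen.1 hc).map π)
  have hne : ∀ {u : K} {l : ℕ}, l.Prime → orderOf u = l → u ≠ 1 := fun hl h e => by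
    rw [e, orderOf_one] at h; exact hl.ne_one h.symm
  obtain ⟨a, ha, hpa, ha'⟩ := key x (hne hp hx)
  obtain ⟨b, hb, hrb, hb'⟩ := key y (hne hr hy)
  obtain ⟨c, hc, -, hc'⟩ := key w (hne Nat.prime_two hw)
  rw [hx] at hpa
  rw [hy] at hrb
  have hab : Nat.card (centralizer ({a} : Set G)) ≠ Nat.card (centralizer ({b} : Set G)) := fun e => by
    rw [← card_image a, ← card_image b] at e
    have e' := Nat.eq_of_mul_eq_mul_right Nat.card_pos e
    refine hcl y r p hr hp hp2 hpr.symm hy (fun z h => (hz z).1 (by rwa [mul_comm])) ?_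
    exact ((e' ▸ hpa).trans hb')
  have hac : Nat.card (centralizer ({a} : Set G)) ≠ Nat.card (centralizer ({c} : Set G)) := fun e => by
    rw [← card_image a, ← card_image c] at e
    have e' := Nat.eq_of_mul_eq_mul_right Nat.card_pos e
    exact hcl w 2 p Nat.prime_two hp hp2 hp2.symm hw (fun z => (hz z).2.1) ((e' ▸ hpa).trans hc')
  have hbc : Nat.card (centralizer ({b} : Set G)) ≠ Nat.card (centralizer ({c} : Set G)) := fun e => by
    rw [← card_image b, ← card_image c] at e
    have e' := Nat.eq_of_mul_eq_mul_right Nat.card_pos e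
    exact hcl w 2 r Nat.prime_two hr hr2 hr2.symm hw (fun z => (hz z).2.2) ((e' ▸ hrb).trans hc')
  rcases S.sizes a ha with h | h <;> rcases S.sizes b hb with h' | h' <;> rcases S.sizes c hc with h'' | h'' <;>
    omega

variable (hanti : ∀ x y : G, x ∉ center G → y ∉ center G →
  centralizer ({y} : Set G) ≤ centralizer ({x} : Set G) → centralizer ({y} : Set G) = centralizer ({x} : Set G))
include hanti

theorem eq_of_coprime {p t : ℕ} {a b : G} (hpt : p ≠ t) (ha : PP p a) (hb : PP t b) (hab : Commute a b) :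
    centralizer ({a} : Set G) = centralizer ({b} : Set G) := by
  have hcop : (orderOf a).Coprime (orderOf b) :=
    Cfsg.Lib.SolvStruct.TwoRegular.coprime_of_pow_eq ha.1 hb.1 hpt ha.2.2 hb.2.2
  have h1 := left_mem_zpowers hab hcop
  have h2 : b ∈ zpowers (a * b) := by rw [hab.eq]; exact left_mem_zpowers hab.symm hcop.symm
  have hn : a * b ∉ center G := fun h => ha.2.1 (zpowers_le.2 h h1)
  exact (hanti a (a * b) ha.2.1 hn (centralizer_le_of_mem h1)).symm.trans
    (hanti b (a * b) hb.2.1 hn (centralizer_le_of_mem h2))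

/-- a Frobenius complement of the central quotient is solvable -/
theorem solvable_complement (H : Subgroup (G ⧸ center G)) (hH : Cfsg.IsFrobeniusComplement H) :
    Group.IsSolvable H := by
  by_cases heven : 2 ∣ Nat.card H
  swap
  · exact Cfsg.Agent.PF.isSolvable_of_odd _ (by rwa [← Nat.not_even_iff_odd, even_iff_two_dvd])
  obtain ⟨hH1, hH2, hH3⟩ := hH
  obtain ⟨N, -, hNn, hc⟩ := Cfsg.Agent.S0035.result H ⟨hH1, hH2, hH3⟩
  haveI := hNn
  have hN : N ≠ ⊥ := by
    intro h
    rw [h] at hc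
    exact hH2 (Subgroup.isComplement'_bot_left.1 hc)
  have hfpf : ∀ h ∈ H, h ≠ 1 → N ⊓ centralizer {h} = ⊥ := by
    intro h hh hh1
    rw [eq_bot_iff]
    rintro k ⟨hkN, hkc⟩
    by_cases hkH : k ∈ H
    · exact (disjoint_iff.1 hc.disjoint) ▸ ⟨hkN, hkH⟩
    exfalso
    apply hh1
    rw [← Subgroup.mem_bot, ← hH3 k hkH]
    refine ⟨hh, ?_⟩
    show h ∈ (MulAut.conj k • H : Subgroup (G ⧸ center G))
    rw [Subgroup.mem_smul_pointwise_iff_exists]
    exact ⟨h, hh, mul_inv_eq_iff_eq_mul.2 (mem_cen.1 hkc).eq⟩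
  obtain ⟨⟨s, hsH, hs2, huniq, -⟩, -⟩ := Cfsg.Agent.S0068.result N H hc hN hfpf heven
  set π := QuotientGroup.mk' (center G)
  -- a 2-element over the central involution
  obtain ⟨v, hv, hvs⟩ : ∃ v : G, PP 2 v ∧ π v = s := by
    obtain ⟨g, hg⟩ := QuotientGroup.mk'_surjective (center G) s
    obtain ⟨i, m, hm, hgn⟩ := Nat.exists_eq_pow_mul_and_not_dvd (orderOf_pos g).ne' 2 (by norm_num)
    have hπm : π (g ^ m) = s := by
      obtain ⟨j, hj⟩ : Odd m := Nat.odd_iff.2 (by omega)
      rw [map_pow, hg, hj, pow_succ, pow_mul, ← hs2, pow_orderOf_eq_one, one_pow, one_mul]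
    refine ⟨g ^ m, ⟨Nat.prime_two, fun e => ?_, i, by rw [← pow_mul, mul_comm, ← hgn, pow_orderOf_eq_one]⟩, hπm⟩
    rw [← hπm, show π (g ^ m) = 1 from (QuotientGroup.eq_one_iff _).2 e, orderOf_one] at hs2
    omega
  -- odd prime power elements over `H` share their centraliser
  have key : ∀ (p : ℕ) (a : G), p ≠ 2 → PP p a → π a ∈ H → centralizer ({a} : Set G) = centralizer ({v} : Set G) := by
    intro p a hp2 ha haH
    refine eq_of_coprime hanti hp2 ha hv (commute_of_coprime ha.1 Nat.prime_two hp2 ha.2.2 hv.2.2 ?_)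
    refine (QuotientGroup.eq_one_iff _).1 ?_
    show π _ = 1
    have hsa : π a * s * (π a)⁻¹ = s := huniq _ (mul_mem (mul_mem haH hsH) (inv_mem haH)) (by
      rw [← hs2]; exact (MulAut.conj (π a)).orderOf_eq s)
    rw [map_mul, map_mul, map_mul, map_inv, map_inv, hvs, hsa, mul_inv_cancel]
  set A : Subgroup H := Subgroup.closure {h : H | ∃ p a, p ≠ 2 ∧ PP p a ∧ π a = (h : G ⧸ center G)}
  haveI hAn : A.Normal := by
    rw [← normalizer_eq_top_iff, eq_top_iff]
    intro g _
    rw [mem_normalizer_iff]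
    intro h
    have hmap : ∀ g : H, ∀ h ∈ A, g * h * g⁻¹ ∈ A := by
      intro g h hh
      have h1 : A.map (MulAut.conj g).toMonoidHom ≤ A := by
        rw [MonoidHom.map_closure, Subgroup.closure_le]
        rintro _ ⟨k, ⟨p, a, hp, ha, hak⟩, rfl⟩
        obtain ⟨g', hg'⟩ := QuotientGroup.mk'_surjective (center G) (g : G ⧸ center G)
        refine Subgroup.subset_closure ⟨p, g' * a * g'⁻¹, hp, ha.conj g', ?_⟩
        rw [map_mul, map_mul, map_inv, hak, hg']
        rfl
      exact h1 ⟨h, hh, rfl⟩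
    exact ⟨hmap g h, fun hh => by simpa [mul_assoc] using hmap g⁻¹ _ hh⟩
  haveI : IsMulCommutative A := Subgroup.isMulCommutative_closure (by
    rintro h ⟨p, a, hp, ha, hah⟩ k ⟨q, b, hq, hb, hbk⟩
    refine Subtype.ext ?_
    rw [Subgroup.coe_mul, Subgroup.coe_mul, ← hah, ← hbk, ← map_mul, ← map_mul]
    have hmem : b ∈ centralizer ({a} : Set G) := by
      rw [key p a hp ha (hah ▸ h.2), ← key q b hq hb (hbk ▸ k.2)]
      exact mem_cen.2 (Commute.refl b)
    rw [(mem_cen.1 hmem).eq])
  haveI : Group.IsSolvable A := Group.isSolvable_of_comm fun a b => mul_comm' a b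
  have hquot : IsPGroup 2 (H ⧸ A) := by
    intro q
    obtain ⟨h, rfl⟩ := QuotientGroup.mk'_surjective A q
    obtain ⟨i, m, hm, hn⟩ := Nat.exists_eq_pow_mul_and_not_dvd (orderOf_pos h).ne' 2 (by norm_num)
    refine ⟨i, ?_⟩
    rw [← map_pow]
    refine (QuotientGroup.eq_one_iff _).2 ?_
    refine Cfsg.Lib.SolvStruct.TwoRegular.mem_of_prime_parts A (h ^ 2 ^ i) fun l hl hld y hy hyi => ?_
    by_cases hy1 : y = 1
    · exact hy1 ▸ one_mem A
    have hl2 : l ≠ 2 := fun e => hm (by
      have h1 : orderOf (h ^ 2 ^ i) ∣ m :=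
        orderOf_dvd_of_pow_eq_one (by rw [← pow_mul, ← hn, pow_orderOf_eq_one])
      exact e ▸ hld.trans h1)
    obtain ⟨g, hg⟩ := QuotientGroup.mk'_surjective (center G) (y : G ⧸ center G)
    obtain ⟨j, n, hnl, hgn⟩ := Nat.exists_eq_pow_mul_and_not_dvd (orderOf_pos g).ne' l hl.ne_one
    obtain ⟨k, hk⟩ := hyi
    have hcop : Nat.Coprime n (orderOf y) :=
      ((hl.coprime_iff_not_dvd.2 hnl).symm.pow_right k).coprime_dvd_right (orderOf_dvd_of_pow_eq_one hk)
    obtain ⟨e, he⟩ := exists_pow_eq_self_of_coprime hcop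
    have hyn : y ^ n ∈ A := by
      refine Subgroup.subset_closure ⟨l, g ^ n, hl2, ⟨hl, fun hc => hy1 ?_,
        j, by rw [← pow_mul, mul_comm, ← hgn, pow_orderOf_eq_one]⟩, by rw [map_pow, hg, SubgroupClass.coe_pow]⟩
      have h1 : y ^ n = 1 := Subtype.ext (by
        rw [SubgroupClass.coe_pow, ← hg, ← map_pow, Subgroup.coe_one]
        exact (QuotientGroup.eq_one_iff _).2 hc)
      rw [← he, h1, one_pow]
    exact he ▸ pow_mem hyn e
  haveI : Group.IsNilpotent (H ⧸ A) := hquot.isNilpotent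
  haveI : Group.IsSolvable (H ⧸ A) := inferInstance
  exact Group.isSolvable_of_ker_le_range A.subtype (QuotientGroup.mk' A) (by simp)

omit hanti in
theorem solvable_perm_four : Group.IsSolvable (Equiv.Perm (Fin 4)) :=
  Cfsg.Lib.Chars.burnside_isSolvable 2 3 Nat.prime_two Nat.prime_three _ ⟨3, 1, by
    rw [Nat.card_eq_fintype_card]; rfl⟩

/-- the antichain case -/
theorem Sizes.solvable_of_anti (S : Sizes G cs cl) : Group.IsSolvable G := by
  by_contra hns
  set π := QuotientGroup.mk' (center G)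
  set M : G → Subgroup G := fun g => centralizer ({g} : Set G) ⊓ centralizer (centralizer ({g} : Set G) : Set G)
  have hgM : ∀ g, g ∈ M g := fun g =>
    ⟨mem_cen.2 (Commute.refl g), mem_centralizer_iff.2 fun c hc => (mem_cen.1 hc).eq⟩
  have hZM : ∀ g, center G ≤ M g := fun g => le_inf (center_le_centralizer _) (center_le_centralizer _)
  have hMeq : ∀ g h, g ∉ center G → h ∉ center G → h ∈ M g →
      centralizer ({h} : Set G) = centralizer ({g} : Set G) := fun g h hg hh hm =>
    (hanti h g hh hg fun c hc => mem_cen.2 (mem_centralizer_iff.1 hm.2 c hc)).symm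
  have hπM : ∀ g h, π h ∈ (M g).map π → h ∈ M g := by
    rintro g h ⟨m, hm, e⟩
    have h1 : m⁻¹ * h ∈ M g := hZM g (QuotientGroup.eq.1 e)
    simpa using mul_mem hm h1
  obtain ⟨S2, hS2⟩ : ∃ g h : G, (g ∉ center G ∧ h ∉ center G) ∧
      centralizer ({g} : Set G) ≠ centralizer ({h} : Set G) := by
    by_contra hno
    push Not at hno
    obtain ⟨x, hx⟩ := exists_PP_two hns
    refine hx.not_eq_center (eq_top_iff.2 fun g _ => ?_)
    by_cases hg : g ∈ center G
    · exact center_le_centralizer _ hg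
    · rw [hno x g ⟨hx.2.1, hg⟩]; exact mem_cen.2 (Commute.refl g)
  obtain ⟨h0, ⟨hg0, hh0⟩, hne⟩ := hS2
  have hres := Cfsg.Agent.S4248.result {X : Subgroup (G ⧸ center G) | ∃ g, g ∉ center G ∧ X = (M g).map π}
    ⟨_, ⟨S2, hg0, rfl⟩, _, ⟨h0, hh0, rfl⟩, fun e => hne
      (hMeq h0 S2 hh0 hg0 (hπM _ _ (e ▸ mem_map_of_mem π (hgM S2))))⟩
    (by
      rintro _ ⟨g, hg, rfl⟩ h
      exact ne_one_iff.2 hg (Subgroup.mem_bot.1 (h ▸ mem_map_of_mem π (hgM g))))
    (by
      intro q hq
      obtain ⟨g, rfl⟩ := QuotientGroup.mk'_surjective (center G) q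
      have hg := ne_one_iff.1 hq
      refine ⟨_, ⟨⟨g, hg, rfl⟩, mem_map_of_mem π (hgM g)⟩, ?_⟩
      rintro _ ⟨⟨h, hh, rfl⟩, hm⟩
      have e := hMeq h g hh hg (hπM _ _ hm)
      simp only [M, e])
  rcases hres with ⟨⟨e⟩⟩ | ⟨p, hp, hH⟩ | ⟨H, hH⟩ | ⟨F, _, _, h4, ⟨e⟩⟩ | ⟨F, _, _, h5, hodd, ⟨e⟩⟩ | ⟨F, _, _, m, hm, hF, ⟨e⟩⟩
  · haveI := solvable_perm_four
    exact hns (isSolvable_of_quotient (solvable_of_solvable_injective (f := e.toMonoidHom) e.injective))
  · refine hns (isSolvable_of_quotient ?_)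
    by_cases hpG : IsPGroup p (G ⧸ center G)
    · haveI := Fact.mk hp
      haveI := hpG.isNilpotent
      infer_instance
    obtain ⟨hnil, hidx⟩ := Cfsg.Agent.S4249.result p hp hpG hH
    set N := Subgroup.closure {g : G ⧸ center G | g ^ p ≠ 1}
    haveI : N.Normal := by
      have hmap : ∀ g, ∀ h ∈ N, g * h * g⁻¹ ∈ N := by
        intro g h hh
        have h1 : N.map (MulAut.conj g).toMonoidHom ≤ N := by
          rw [MonoidHom.map_closure, Subgroup.closure_le]
          rintro _ ⟨k, hk, rfl⟩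
          refine Subgroup.subset_closure ?_
          show (g * k * g⁻¹) ^ p ≠ 1
          rw [conj_pow]
          exact fun e => hk (conj_eq_one_iff.1 e)
        exact h1 ⟨h, hh, rfl⟩
      exact ⟨fun n hn g => hmap g n hn⟩
    haveI := hnil
    haveI : Group.IsSolvable N := inferInstance
    haveI : Group.IsSolvable ((G ⧸ center G) ⧸ N) := by
      haveI := Fact.mk hp
      haveI : IsCyclic ((G ⧸ center G) ⧸ N) := isCyclic_of_prime_card (p := p) (N.index_eq_card ▸ hidx)
      haveI : IsMulCommutative ((G ⧸ center G) ⧸ N) := IsCyclic.commutative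
      exact Group.isSolvable_of_comm fun a b => mul_comm' a b
    exact Group.isSolvable_of_ker_le_range N.subtype (QuotientGroup.mk' N) (by simp)
  · obtain ⟨K, hK1, hKn, hKnil⟩ := Cfsg.Agent.S0042.result H hH
    obtain ⟨K', hK'1, hK'n, hc⟩ := Cfsg.Agent.S0035.result H hH
    have hKK : K = K' := SetLike.coe_injective (hK1.trans hK'1.symm)
    subst hKK
    haveI := hKn
    haveI := hKnil
    haveI : Group.IsSolvable K := inferInstance
    haveI := solvable_complement hanti H hH
    haveI : Group.IsSolvable ((G ⧸ center G) ⧸ K) := by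
      refine solvable_of_surjective (f := (QuotientGroup.mk' K).comp H.subtype) fun q => ?_
      obtain ⟨x, rfl⟩ := QuotientGroup.mk'_surjective K q
      obtain ⟨⟨k, h⟩, rfl⟩ := hc.2 x
      refine ⟨h, ?_⟩
      show QuotientGroup.mk' K h = QuotientGroup.mk' K ((k : G ⧸ center G) * h)
      rw [map_mul, show QuotientGroup.mk' K (k : G ⧸ center G) = 1 from (QuotientGroup.eq_one_iff _).2 k.2,
        one_mul]
    exact hns (isSolvable_of_quotient (Group.isSolvable_of_ker_le_range K.subtype (QuotientGroup.mk' K) (by simp)))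
  · exact S.no_three e.symm.toMonoidHom e.symm.injective (fun z _ => ⟨e z, e.symm_apply_apply z⟩) (psl h4)
  · let ψ : Matrix.ProjectiveSpecialLinearGroup (Fin 2) F →* GL (Fin 2) F ⧸ center (GL (Fin 2) F) :=
      Matrix.ProjectiveSpecialLinearGroup.toPGL
    refine S.no_three (e.symm.toMonoidHom.comp ψ)
      (e.symm.injective.comp Matrix.ProjectiveSpecialLinearGroup.toPGL_injective) (fun z hz => ?_) (psl (by omega))
    obtain ⟨g, hg⟩ := QuotientGroup.mk'_surjective (center (GL (Fin 2) F)) (e z)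
    obtain ⟨n, hn⟩ : ∃ n, (e z ^ n) * (e z ^ n) = e z := by
      obtain ⟨j, hj⟩ := hz
      refine ⟨j + 1, ?_⟩
      rw [← pow_add, show j + 1 + (j + 1) = orderOf z + 1 by omega, ← e.orderOf_eq z, pow_succ,
        pow_orderOf_eq_one, one_mul]
    set g' : GL (Fin 2) F := g ^ n
    set d : Fˣ := Matrix.GeneralLinearGroup.det g' with hd
    set c : GL (Fin 2) F := Matrix.GeneralLinearGroup.scalar (Fin 2) d⁻¹ with hcdef
    have hc : c ∈ center (GL (Fin 2) F) := by
      rw [Matrix.GeneralLinearGroup.center_eq_range_scalar]; exact ⟨_, rfl⟩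
    have hdet : ((g' * g' * c : GL (Fin 2) F) : Matrix (Fin 2) (Fin 2) F).det = 1 := by
      have h1 : ((c : GL (Fin 2) F) : Matrix (Fin 2) (Fin 2) F).det = ((d : F))⁻¹ * ((d : F))⁻¹ := by
        rw [hcdef, Matrix.GeneralLinearGroup.coe_scalar]
        simp [Matrix.scalar_apply, Matrix.det_diagonal, sq]
      rw [Units.val_mul, Units.val_mul, Matrix.det_mul, Matrix.det_mul, h1,
        show (g' : Matrix (Fin 2) (Fin 2) F).det = (d : F) from rfl]
      field_simp
    refine ⟨QuotientGroup.mk (⟨_, hdet⟩ : Matrix.SpecialLinearGroup (Fin 2) F), ?_⟩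
    apply e.injective
    show e (e.symm (ψ _)) = e z
    rw [e.apply_symm_apply, ← hn, ← hg]
    show QuotientGroup.mk' (center (GL (Fin 2) F))
      (Matrix.SpecialLinearGroup.toGL (⟨_, hdet⟩ : Matrix.SpecialLinearGroup (Fin 2) F)) = _
    rw [← map_pow, ← map_mul]
    refine QuotientGroup.eq.2 ?_
    have : Matrix.SpecialLinearGroup.toGL (⟨_, hdet⟩ : Matrix.SpecialLinearGroup (Fin 2) F) = g' * g' * c :=
      Units.ext rfl
    rw [this, mul_inv_rev, mul_assoc, inv_mul_cancel, mul_one]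
    exact inv_mem hc
  · exact S.no_three e.symm.toMonoidHom e.symm.injective (fun z _ => ⟨e z, e.symm_apply_apply z⟩) (suzuki hm hF)

end Cfsg.Lib.ItoRankTwo
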