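import Mathlib
import Cfsg.Agent.SolvStruct.TwoRegularSizes
import Cfsg.Agent.SolvStruct.Basics
import Cfsg.Agent.PGroups.Basic
import Cfsg.Agent.Chars.Burnside
import Cfsg.Agent.OddChar.PF.OddOrder

/-!
# Conjugate rank two: prime power elements and centralisers modulo the centre
-/

set_option autoImplicit false
set_option linter.unusedSectionVars false
set_option linter.style.haveILetI false

namespace Cfsg.Lib.ItoRankTwo

open Subgroup

universe u

variable {G : Type u} [Group G]

/-- a noncentral element of order a power of the prime `p` -/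
def PP (p : ℕ) (x : G) : Prop := p.Prime ∧ x ∉ center G ∧ ∃ i, x ^ p ^ i = 1

theorem mem_cen {a g : G} : g ∈ centralizer ({a} : Set G) ↔ Commute g a := mem_centralizer_singleton_iff

theorem PP.conj {p : ℕ} {x : G} (hx : PP p x) (g : G) : PP p (g * x * g⁻¹) := by
  refine ⟨hx.1, fun hc => hx.2.1 ?_, ?_⟩
  · have h := Subgroup.Normal.conj_mem (H := center G) inferInstance _ hc g⁻¹
    simpa [mul_assoc] using h
  · obtain ⟨i, hi⟩ := hx.2.2
    exact ⟨i, by rw [conj_pow, hi, mul_one, mul_inv_cancel]⟩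

theorem PP.not_eq_center {p : ℕ} {x : G} (hx : PP p x) : centralizer ({x} : Set G) ≠ ⊤ := fun h =>
  hx.2.1 (mem_center_iff.2 fun g => mem_centralizer_singleton_iff.1 (h ▸ mem_top g))

theorem pow_mul_of_commute {p : ℕ} {x y : G} (hx : ∃ i, x ^ p ^ i = 1) (hy : ∃ i, y ^ p ^ i = 1)
    (hc : Commute x y) : ∃ i, (x * y) ^ p ^ i = 1 := by
  obtain ⟨i, hi⟩ := hx
  obtain ⟨j, hj⟩ := hy
  refine ⟨i + j, ?_⟩
  rw [hc.mul_pow, pow_add, pow_mul, hi, one_pow, one_mul, mul_comm, pow_mul, hj, one_pow]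

theorem eq_one_of_two_kinds {p t : ℕ} (hp : p.Prime) (ht : t.Prime) (hne : p ≠ t) {z : G} {i j : ℕ}
    (h1 : z ^ p ^ i = 1) (h2 : z ^ t ^ j = 1) : z = 1 :=
  orderOf_eq_one_iff.1 (Nat.eq_one_of_dvd_coprimes (((Nat.coprime_primes hp ht).2 hne).pow i j)
    (orderOf_dvd_of_pow_eq_one h1) (orderOf_dvd_of_pow_eq_one h2))

/-- conjugating `b` into `z * b` with `z` central: iterate -/
theorem conj_pow_central {g b z : G} (h : g * b * g⁻¹ = z * b) (hz : z ∈ center G) (n : ℕ) :
    g ^ n * b * (g ^ n)⁻¹ = z ^ n * b := by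
  induction n with
  | zero => simp
  | succ k ih =>
    have hgz : g * z ^ k = z ^ k * g := (mem_center_iff.1 (pow_mem hz k) g)
    calc g ^ (k + 1) * b * (g ^ (k + 1))⁻¹ = g * (g ^ k * b * (g ^ k)⁻¹) * g⁻¹ := by rw [pow_succ']; group
      _ = g * z ^ k * b * g⁻¹ := by rw [ih]; group
      _ = z ^ k * (g * b * g⁻¹) := by rw [hgz]; group
      _ = z ^ (k + 1) * b := by rw [h, pow_succ]; group

/-- coprime elements commuting modulo the centre commute -/
theorem commute_of_coprime {p t : ℕ} (hp : p.Prime) (ht : t.Prime) (hne : p ≠ t) {g b : G}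
    (hg : ∃ i, g ^ p ^ i = 1) (hb : ∃ j, b ^ t ^ j = 1) (h : g * b * g⁻¹ * b⁻¹ ∈ center G) : Commute g b := by
  obtain ⟨i, hi⟩ := hg
  obtain ⟨j, hj⟩ := hb
  set z := g * b * g⁻¹ * b⁻¹ with hzd
  have hb' : g * b * g⁻¹ = z * b := by rw [hzd]; group
  have h1 : z ^ p ^ i = 1 := by
    have := conj_pow_central hb' h (p ^ i)
    rw [hi] at this
    simpa using this.symm
  have h2 : z ^ t ^ j = 1 := by
    have h3 : (g * b * g⁻¹) ^ t ^ j = 1 := by rw [conj_pow, hj, mul_one, mul_inv_cancel]
    rw [hb', (show Commute z b from (mem_center_iff.1 h b).symm).mul_pow, hj, mul_one] at h3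
    exact h3
  have hz1 : z = 1 := eq_one_of_two_kinds hp ht hne h1 h2
  rw [hz1, one_mul] at hb'
  exact mul_inv_eq_iff_eq_mul.1 hb'

theorem centralizer_conj (g x : G) :
    centralizer ({g * x * g⁻¹} : Set G) = (centralizer ({x} : Set G)).map (MulAut.conj g).toMonoidHom := by
  ext y
  rw [mem_cen, mem_map_equiv, mem_cen, MulAut.conj_symm_apply]
  constructor
  · intro h
    calc g⁻¹ * y * g * x = g⁻¹ * (y * (g * x * g⁻¹)) * g := by group
      _ = g⁻¹ * (g * x * g⁻¹ * y) * g := by rw [h.eq]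
      _ = x * (g⁻¹ * y * g) := by group
  · intro h
    calc y * (g * x * g⁻¹) = g * (g⁻¹ * y * g * x) * g⁻¹ := by group
      _ = g * (x * (g⁻¹ * y * g)) * g⁻¹ := by rw [h.eq]
      _ = g * x * g⁻¹ * y := by group

theorem centralizer_mul_center {z : G} (hz : z ∈ center G) (x : G) :
    centralizer ({z * x} : Set G) = centralizer ({x} : Set G) := by
  ext y
  have h : y * z = z * y := mem_center_iff.1 hz y
  rw [mem_cen, mem_cen]
  constructor
  · intro h1
    have : z * (y * x) = z * (x * y) := by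
      rw [← mul_assoc, ← h, mul_assoc, h1.eq, mul_assoc]
    exact mul_left_cancel this
  · intro h1
    show y * (z * x) = z * x * y
    rw [← mul_assoc, h, mul_assoc, h1.eq, mul_assoc]

theorem mem_normalizer_of_eq {g x : G}
    (h : centralizer ({g * x * g⁻¹} : Set G) = centralizer ({x} : Set G)) :
    g ∈ normalizer ((centralizer ({x} : Set G) : Subgroup G) : Set G) := by
  rw [centralizer_conj] at h
  rw [mem_normalizer_iff]
  intro y
  constructor
  · intro hy
    rw [← h]
    exact ⟨y, hy, rfl⟩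
  · intro hy
    rw [← h] at hy
    obtain ⟨w, hw, e⟩ := hy
    have : w = y := mul_left_cancel (mul_right_cancel (show g * w * g⁻¹ = g * y * g⁻¹ from e))
    exact this ▸ hw

/-- a noncentral element has a noncentral prime part -/
theorem exists_part [Finite G] {x : G} (hx : x ∉ center G) :
    ∃ p y, PP p y ∧ p ∣ orderOf x ∧ y ∈ zpowers x ∧ centralizer ({x} : Set G) ≤ centralizer ({y} : Set G) := by
  by_contra hno
  push Not at hno
  refine hx (Cfsg.Lib.SolvStruct.TwoRegular.mem_of_prime_parts _ x fun l hl hd y hy hyi => ?_)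
  by_contra hyn
  refine hno l y ⟨hl, hyn, hyi⟩ hd hy fun c hc => ?_
  obtain ⟨n, rfl⟩ := mem_zpowers_iff.1 hy
  rw [mem_cen] at hc ⊢
  exact hc.zpow_right n

/-- a noncentral `p`-subgroup normalised by a `p`-group has a member centralised by it modulo the centre -/
theorem exists_fixed [Finite G] {p : ℕ} [Fact p.Prime] {S P : Subgroup G} (hP : IsPGroup p P) (hSP : S ≤ P)
    (hN : P ≤ normalizer (S : Set G)) (hS : ¬ S ≤ center G) :
    ∃ v ∈ S, PP p v ∧ ∀ g ∈ P, g * v * g⁻¹ * v⁻¹ ∈ center G := by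
  set π := QuotientGroup.mk' (center G)
  set P' : Subgroup (G ⧸ center G) := P.map π
  set S' : Subgroup (G ⧸ center G) := S.map π
  have hP' : IsPGroup p P' := hP.map π
  haveI : (S'.subgroupOf P').Normal := by
    refine normal_subgroupOf_of_le_normalizer ?_
    exact (Subgroup.map_mono hN).trans (le_normalizer_map π)
  have hne : S'.subgroupOf P' ≠ ⊥ := by
    intro h
    refine hS fun s hs => ?_
    have h1 : (⟨π s, mem_map_of_mem π (hSP hs)⟩ : P') ∈ S'.subgroupOf P' := mem_map_of_mem π hs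
    rw [h, Subgroup.mem_bot] at h1
    exact (QuotientGroup.eq_one_iff s).1 (congrArg Subtype.val h1)
  obtain ⟨z, hzS, hzc, hz1⟩ := Cfsg.Lib.PGroups.exists_mem_center_of_normal_ne_bot hP' hne
  obtain ⟨v, hv, hvz⟩ := mem_subgroupOf.1 hzS
  have hv' : π v = (z : G ⧸ center G) := hvz
  refine ⟨v, hv, ⟨Fact.out, fun hc => ?_, ?_⟩, fun g hg => ?_⟩
  · have h1 : z = 1 := Subtype.ext (by rw [← hv']; exact (QuotientGroup.eq_one_iff v).2 hc)
    rw [h1, orderOf_one] at hz1
    exact (Fact.out : p.Prime).ne_one hz1.symm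
  · obtain ⟨i, hi⟩ := hP ⟨v, hSP hv⟩
    exact ⟨i, congrArg Subtype.val hi⟩
  · have h1 := congrArg Subtype.val (mem_center_iff.1 hzc ⟨π g, mem_map_of_mem π hg⟩)
    change π g * (z : G ⧸ center G) = (z : G ⧸ center G) * π g at h1
    rw [← hv'] at h1
    refine (QuotientGroup.eq_one_iff _).1 ?_
    show π (g * v * g⁻¹ * v⁻¹) = 1
    rw [map_mul, map_mul, map_mul, map_inv, map_inv, h1]
    group

/-- no noncentral `p`-elements: `p` does not divide the index of the centre -/
theorem not_dvd_of_no_PP [Finite G] {p : ℕ} [hp : Fact p.Prime] (h : ∀ x : G, ¬ PP p x) :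
    ¬ p ∣ Nat.card (G ⧸ center G) := by
  intro hd
  obtain ⟨S⟩ : Nonempty (Sylow p G) := inferInstance
  refine S.not_dvd_index ((Subgroup.index_eq_card (H := center G) ▸ hd).trans (index_dvd_of_le fun x hx => ?_))
  by_contra hc
  obtain ⟨i, hi⟩ := S.2 ⟨x, hx⟩
  exact h x ⟨hp.out, hc, i, congrArg Subtype.val hi⟩

theorem isSolvable_of_quotient [Finite G] (h : Group.IsSolvable (G ⧸ center G)) : Group.IsSolvable G := by
  haveI := h
  haveI : Group.IsSolvable (center G) := Group.isSolvable_of_comm fun a b =>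
    Subtype.ext (mem_center_iff.1 b.2 a)
  exact Group.isSolvable_of_ker_le_range (center G).subtype (QuotientGroup.mk' (center G)) (by simp)

/-- in a nonsolvable group there are noncentral 2-elements -/
theorem exists_PP_two [Finite G] (hns : ¬ Group.IsSolvable G) : ∃ x : G, PP 2 x := by
  by_contra hno
  push Not at hno
  haveI := Fact.mk Nat.prime_two
  refine hns (isSolvable_of_quotient (Cfsg.Agent.PF.isSolvable_of_odd _ ?_))
  rw [← Nat.not_even_iff_odd, even_iff_two_dvd]
  exact not_dvd_of_no_PP hno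

/-- a nonsolvable group has noncentral elements of prime power order for a prime outside any pair -/
theorem exists_third [Finite G] (hns : ¬ Group.IsSolvable G) {p q : ℕ} (hp : p.Prime) (hq : q.Prime) :
    ∃ l, l ≠ p ∧ l ≠ q ∧ ∃ x : G, PP l x := by
  by_contra hno
  push Not at hno
  have hfac : ∀ l : ℕ, l.Prime → l ∣ Nat.card (G ⧸ center G) → l = p ∨ l = q := by
    intro l hl hd
    haveI := Fact.mk hl
    by_contra hne
    push Not at hne
    exact not_dvd_of_no_PP (fun x => hno l hne.1 hne.2 x) hd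
  refine hns (isSolvable_of_quotient ?_)
  set n := Nat.card (G ⧸ center G)
  by_cases hpq : p = q
  · subst hpq
    refine Cfsg.Lib.Chars.burnside_isSolvable p p hp hp _ ⟨n.primeFactorsList.length, 0, ?_⟩
    rw [pow_zero, mul_one]
    exact Nat.eq_prime_pow_of_unique_prime_dvd Nat.card_pos.ne' fun {d} hd hdd => by
      rcases hfac d hd hdd with e | e <;> exact e
  obtain ⟨a, m, hm, hn⟩ := Nat.exists_eq_pow_mul_and_not_dvd (show n ≠ 0 from Nat.card_pos.ne') p hp.ne_one
  refine Cfsg.Lib.Chars.burnside_isSolvable p q hp hq _ ⟨a, m.primeFactorsList.length, ?_⟩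
  show n = _
  rw [hn, ← Nat.eq_prime_pow_of_unique_prime_dvd (p := q) (n := m) (fun e => hm (e ▸ dvd_zero p))
    fun {d} hd hdd => (hfac d hd (hn ▸ hdd.mul_left _)).resolve_left fun e => hm (e ▸ hdd)]

end Cfsg.Lib.ItoRankTwo
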