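import Cfsg.Agent.ItoRankTwo.Tools
import Cfsg.Agent.S4033
import Cfsg.Agent.S4035
import Cfsg.Agent.RealSize.Lift
import Cfsg.Agent.SolvStruct.ItoClasses

/-!
# Conjugate rank two: a centraliser properly contained in another one
-/

set_option autoImplicit false
set_option linter.unusedSectionVars false
set_option linter.style.haveILetI false

namespace Cfsg.Lib.ItoRankTwo

open Subgroup
open Cfsg.Lib.SolvStruct.TwoRegular (NC not_case eq_of_prime_dvd coprime_of_pow_eq coprime_p_of_pow_eq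
  mem_of_prime_parts)

universe u

variable {G : Type u} [Group G] [Finite G]

/-- only two orders of centralisers of noncentral elements -/
structure Sizes (G : Type u) [Group G] (cs cl : ℕ) : Prop where
  sizes : ∀ x : G, x ∉ center G →
    Nat.card (centralizer ({x} : Set G)) = cs ∨ Nat.card (centralizer ({x} : Set G)) = cl
  lt : cl < cs

omit [Finite G] in
theorem index_inside {C : Subgroup G} (g : C) :
    (centralizer ({g} : Set C)).index * Nat.card ↥(C ⊓ centralizer ({(g : G)} : Set G)) = Nat.card C := by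
  rw [← (centralizer ({g} : Set C)).index_mul_card]
  refine congrArg _ (Nat.card_congr ⟨fun x => ⟨⟨x, x.2.1⟩, mem_cen.2 (Subtype.ext (mem_cen.1 x.2.2).eq)⟩,
    fun x => ⟨(x : C), (x : C).2, mem_cen.2 (congrArg Subtype.val (mem_cen.1 x.2).eq)⟩,
    fun x => rfl, fun x => rfl⟩)

theorem left_mem_zpowers {u v : G} (hc : Commute u v) (hcop : (orderOf u).Coprime (orderOf v)) :
    u ∈ zpowers (u * v) := by
  obtain ⟨j, hj⟩ := exists_pow_eq_self_of_coprime hcop.symm
  refine mem_zpowers_iff.mpr ⟨((orderOf v * j : ℕ) : ℤ), ?_⟩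
  rw [zpow_natCast, pow_mul, hc.mul_pow, pow_orderOf_eq_one, mul_one, hj]

theorem centralizer_le_of_mem {x y : G} (h : y ∈ zpowers x) :
    centralizer ({x} : Set G) ≤ centralizer ({y} : Set G) := fun c hc => by
  obtain ⟨n, rfl⟩ := mem_zpowers_iff.1 h
  exact mem_cen.2 ((mem_cen.1 hc).zpow_right n)

variable {cs cl : ℕ} (S : Sizes G cs cl)
include S

theorem Sizes.card_le {x : G} (hx : x ∉ center G) : Nat.card (centralizer ({x} : Set G)) ≤ cs := by
  rcases S.sizes x hx with h | h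
  · exact h.le
  · exact h.le.trans S.lt.le

theorem Sizes.of_lt {x y : G} (hx : x ∉ center G) (hy : y ∉ center G)
    (h : centralizer ({y} : Set G) < centralizer ({x} : Set G)) :
    Nat.card (centralizer ({x} : Set G)) = cs ∧ Nat.card (centralizer ({y} : Set G)) = cl := by
  have hlt : Nat.card (centralizer ({y} : Set G)) < Nat.card (centralizer ({x} : Set G)) := by
    refine lt_of_le_of_ne (Nat.le_of_dvd Nat.card_pos (card_dvd_of_le h.le)) fun e => h.ne ?_
    exact eq_of_le_of_card_ge h.le e.ge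
  rcases S.sizes x hx with h1 | h1 <;> rcases S.sizes y hy with h2 | h2 <;> rw [h1, h2] at hlt
  · exact absurd hlt (lt_irrefl _)
  · exact ⟨h1, h2⟩
  · exact absurd hlt S.lt.not_gt
  · exact absurd hlt (lt_irrefl _)

variable {r : ℕ} (hr : cs = r * cl) (hr1 : 1 < r)
include hr hr1

/-- class sizes of elements of coprime order inside a centraliser -/
theorem Sizes.index_coprime {a g : G} (ha : a ∉ center G) (hga : g ∈ centralizer ({a} : Set G))
    (hcop : (orderOf a).Coprime (orderOf g)) :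
    (centralizer ({(⟨g, hga⟩ : centralizer ({a} : Set G))} : Set (centralizer ({a} : Set G)))).index = 1 ∨
    (centralizer ({(⟨g, hga⟩ : centralizer ({a} : Set G))} : Set (centralizer ({a} : Set G)))).index = r := by
  set C := centralizer ({a} : Set G) with hC
  have hcomm : Commute a g := (mem_cen.1 hga).symm
  have hm : a ∈ zpowers (a * g) := left_mem_zpowers hcomm hcop
  have hag : a * g ∉ center G := fun h => ha (zpowers_le.2 h hm)
  have heq : C ⊓ centralizer ({g} : Set G) = centralizer ({a * g} : Set G) := by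
    refine le_antisymm (fun c hc => mem_cen.2 ((mem_cen.1 hc.1).mul_right (mem_cen.1 hc.2))) fun c hc => ?_
    have hgm : g ∈ zpowers (a * g) := by
      rw [hcomm.eq]; exact left_mem_zpowers hcomm.symm hcop.symm
    exact ⟨centralizer_le_of_mem hm hc, centralizer_le_of_mem hgm hc⟩
  have h := index_inside (⟨g, hga⟩ : C)
  rw [heq] at h
  have hle : Nat.card (centralizer ({a * g} : Set G)) ≤ Nat.card C :=
    Nat.le_of_dvd Nat.card_pos (card_dvd_of_le (centralizer_le_of_mem hm))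
  rcases hle.eq_or_lt with e | e
  · left
    rw [e] at h
    exact (Nat.mul_eq_right Nat.card_pos.ne').1 h
  · right
    rcases S.sizes a ha with h1 | h1 <;> rcases S.sizes _ hag with h2 | h2 <;> rw [h1, h2] at e h
    · exact absurd e (lt_irrefl _)
    · rw [hr] at h
      refine Nat.eq_of_mul_eq_mul_right (Nat.pos_of_ne_zero fun e0 => ?_) h
      rw [hr, e0, mul_zero] at e
      exact lt_irrefl _ e
    · exact absurd e S.lt.not_gt
    · exact absurd e (lt_irrefl _)

/-- a prime not dividing the ratio divides every noncentral class size -/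
theorem Sizes.dvd_index {p : ℕ} {x : G} (hx : PP p x) (hpr : ¬ p ∣ r) {a : G} (ha : a ∉ center G) :
    p ∣ (centralizer ({a} : Set G)).index := by
  haveI := Fact.mk hx.1
  obtain ⟨z, hz, hzd⟩ : ∃ z : G, z ∉ center G ∧ p ∣ (centralizer ({z} : Set G)).index := by
    by_contra hno
    push Not at hno
    obtain ⟨P⟩ : Nonempty (Sylow p G) := inferInstance
    set M := centralizer ((P : Subgroup G) : Set G)
    have hM : M ≠ ⊤ := by
      intro h
      refine not_dvd_of_no_PP (p := p) (G := G) (fun y hy => ?_) ?_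
      · obtain ⟨i, hi⟩ := hy.2.2
        obtain ⟨Q, hQ⟩ := (Cfsg.Lib.SolvStruct.TwoRegular.isPGroup_zpowers' hx.1 ⟨i, hi⟩).exists_le_sylow
        obtain ⟨g, hg⟩ := MulAction.exists_smul_eq G P Q
        have hy' : y ∈ (Q : Subgroup G) := hQ (mem_zpowers y)
        rw [← hg, Cfsg.Lib.Transfer.sylow_smul_coe] at hy'
        obtain ⟨w, hw, rfl⟩ := hy'
        refine hy.2.1 (Subgroup.Normal.conj_mem (H := center G) inferInstance _ (mem_center_iff.2 fun g' => ?_) g)
        exact (mem_centralizer_iff.1 (h ▸ mem_top g' : g' ∈ M) w hw).symm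
      · obtain ⟨i, hi⟩ := hx.2.2
        have h1 : (x : G ⧸ center G) ≠ 1 := fun e => hx.2.1 ((QuotientGroup.eq_one_iff x).1 e)
        refine (IsPGroup.dvd_orderOf (p := p) (G := zpowers (x : G ⧸ center G)) ?_
          (g := ⟨_, mem_zpowers _⟩) fun e => h1 (congrArg Subtype.val e)).trans ?_
        · refine Cfsg.Lib.SolvStruct.TwoRegular.isPGroup_zpowers' hx.1 ⟨i, ?_⟩
          rw [← QuotientGroup.mk_pow, hi, QuotientGroup.mk_one]
        · exact (Subgroup.orderOf_coe _).symm.dvd.trans (_root_.orderOf_dvd_natCard _)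
    obtain ⟨g, hg⟩ := Cfsg.Lib.SolvStruct.exists_not_mem_conj M hM
    by_cases hgZ : g ∈ center G
    · exact hg 1 (by simpa using center_le_centralizer _ hgZ)
    obtain ⟨Q, hQ⟩ := Cfsg.Lib.SolvStruct.ItoClasses.exists_sylow_centralizing g (hno g hgZ)
    obtain ⟨c, hc⟩ := MulAction.exists_smul_eq G P Q
    refine hg c (mem_centralizer_iff.2 fun w hw => ?_)
    have hw' : c * w * c⁻¹ ∈ centralizer ({g} : Set G) :=
      mem_cen.2 (mem_centralizer_iff.1 hQ _ (by
        rw [SetLike.mem_coe, ← hc, Cfsg.Lib.Transfer.sylow_smul_coe]; exact ⟨w, hw, rfl⟩))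
    calc w * (c⁻¹ * g * c) = c⁻¹ * (c * w * c⁻¹ * g) * c := by group
      _ = c⁻¹ * (g * (c * w * c⁻¹)) * c := by rw [(mem_cen.1 hw').eq]
      _ = c⁻¹ * g * c * w := by group
  have h1 := (centralizer ({z} : Set G)).index_mul_card
  have h2 := (centralizer ({a} : Set G)).index_mul_card
  have hcl : 0 < cl := Nat.pos_of_ne_zero fun e => by
    have := S.lt; rw [hr, e, mul_zero] at this; exact lt_irrefl _ this
  rcases S.sizes z hz with e1 | e1 <;> rcases S.sizes a ha with e2 | e2 <;> rw [e1] at h1 <;> rw [e2] at h2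
  · rwa [Nat.eq_of_mul_eq_mul_right (hr ▸ Nat.mul_pos (by omega) hcl) (h2.trans h1.symm)]
  · rw [hr, ← mul_assoc] at h1
    rw [Nat.eq_of_mul_eq_mul_right hcl (h2.trans h1.symm)]
    exact hzd.mul_right _
  · rw [hr, ← mul_assoc] at h2
    rw [← Nat.eq_of_mul_eq_mul_right hcl (h2.trans h1.symm)] at hzd
    exact (hx.1.dvd_mul.1 hzd).resolve_right hpr
  · rwa [Nat.eq_of_mul_eq_mul_right hcl (h2.trans h1.symm)]

/-- every centraliser contains noncentral elements for a prime not dividing the ratio -/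
theorem Sizes.exists_mem {p : ℕ} {x : G} (hx : PP p x) (hpr : ¬ p ∣ r) {a : G} (ha : a ∉ center G) :
    ∃ b ∈ centralizer ({a} : Set G), PP p b := by
  haveI := Fact.mk hx.1
  by_contra hno
  push Not at hno
  obtain ⟨W⟩ : Nonempty (Sylow p (centralizer ({a} : Set G))) := inferInstance
  set W' : Subgroup G := (W : Subgroup (centralizer ({a} : Set G))).map (centralizer ({a} : Set G)).subtype
  have hW' : IsPGroup p W' := W.2.map _
  have hWZ : W' ≤ center G := by
    intro s hs
    by_contra hsn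
    obtain ⟨i, hi⟩ := hW' ⟨s, hs⟩
    exact hno s (map_subtype_le _ hs) ⟨hx.1, hsn, i, congrArg Subtype.val hi⟩
  haveI : W'.Normal := ⟨fun n hn g => by
    rw [show g * n * g⁻¹ = n by rw [(mem_center_iff.mp (hWZ hn)) g, mul_inv_cancel_right]]; exact hn⟩
  have hsup : IsPGroup p (zpowers x ⊔ W' : Subgroup G) :=
    (Cfsg.Lib.SolvStruct.TwoRegular.isPGroup_zpowers' hx.1 hx.2.2).to_sup_of_normal_right hW'
  have hle : zpowers x ⊔ W' ≤ centralizer ({x} : Set G) :=
    sup_le (zpowers_le.2 (mem_cen.2 (Commute.refl x))) (hWZ.trans (center_le_centralizer _))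
  obtain ⟨e, he⟩ := IsPGroup.iff_card.mp hsup
  have h1 : p ^ e ∣ Nat.card (centralizer ({x} : Set G)) := he ▸ card_dvd_of_le hle
  have h2 : p ^ e ∣ Nat.card (centralizer ({a} : Set G)) := by
    rcases S.sizes x hx.2.1 with e1 | e1 <;> rcases S.sizes a ha with e2 | e2 <;>
      rw [e1] at h1 <;> rw [e2]
    · exact h1
    · rw [hr] at h1
      exact ((Nat.Prime.coprime_iff_not_dvd hx.1).2 hpr |>.pow_left e).dvd_of_dvd_mul_left h1
    · rw [hr]; exact h1.mul_left r
    · exact h1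
  have h3 : p ^ e ∣ Nat.card W' := by
    rw [show W' = (W : Subgroup _).map (centralizer ({a} : Set G)).subtype from rfl,
      card_map_of_injective (centralizer ({a} : Set G)).subtype_injective]
    exact W.pow_dvd_card_of_pow_dvd_card h2
  have heq : W' = zpowers x ⊔ W' :=
    eq_of_le_of_card_ge le_sup_right (he ▸ Nat.le_of_dvd Nat.card_pos h3)
  exact hx.2.1 (hWZ (heq ▸ mem_sup_left (mem_zpowers x)))

omit S hr hr1 in
/-- if the `l`-elements are central for `l ∉ {u, q}`, then class sizes involve only `u` and `q` -/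
theorem not_dvd_index_of_central {H : Type u} [Group H] [Finite H] {l : ℕ} [Fact l.Prime]
    (h : ∀ x : H, (∃ i, x ^ l ^ i = 1) → x ∈ center H) (y : H) : ¬ l ∣ (centralizer ({y} : Set H)).index := by
  intro hd
  obtain ⟨P⟩ : Nonempty (Sylow l H) := inferInstance
  refine P.not_dvd_index (hd.trans (index_dvd_of_le fun x hx => center_le_centralizer _ (h x ?_)))
  obtain ⟨i, hi⟩ := P.2 ⟨x, hx⟩
  exact ⟨i, congrArg Subtype.val hi⟩

omit S hr hr1 in
/-- the ratio seen as the class size of a group with one class size of `p`-regular elements -/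
theorem ratio_cases {H : Type u} [Group H] [Finite H] {p m : ℕ} [Fact p.Prime]
    (h : Cfsg.Lib.SolvStruct.TwoRegular.Two p m H) (y : H) (hy : (centralizer ({y} : Set H)).index = m) :
    (∀ d : ℕ, d.Prime → d ∣ m → d = p) ∨
      ∃ q : ℕ, q.Prime ∧ (∀ l : ℕ, l.Prime → l ≠ p → l ≠ q → ∀ x : H, (∃ i, x ^ l ^ i = 1) → x ∈ center H) ∧
        (∀ d : ℕ, d.Prime → d ∣ m → d = p ∨ d = q) := by
  by_cases hnc : ∃ l, ∃ z : H, NC p l z
  · obtain ⟨q0, z0, hz0⟩ := hnc
    by_cases hall : ∀ l : ℕ, ∃ l', l' ≠ l ∧ ∃ z : H, NC p l' z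
    · left
      intro d hd hdm
      by_contra hdp
      refine not_case h hall hd hdp hdm fun l hl hlm => ?_
      by_cases hlp : l = p
      · exact Or.inl hlp
      · exact Or.inr (eq_of_prime_dvd h hall hl hlp hlm hd hdp hdm)
    · push Not at hall
      obtain ⟨q, hq⟩ := hall
      have hqq : q0 = q := by
        by_contra hne
        exact hq q0 hne z0 hz0
      subst hqq
      have hc : ∀ l : ℕ, l.Prime → l ≠ p → l ≠ q0 → ∀ x : H, (∃ i, x ^ l ^ i = 1) → x ∈ center H :=
        fun l hl hlp hlq x hx => by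
          by_contra hxn
          exact hq l hlq x ⟨hl, hlp, hxn, hx⟩
      refine Or.inr ⟨q0, hz0.1, hc, fun d hd hdm => ?_⟩
      by_contra hne
      push Not at hne
      haveI := Fact.mk hd
      exact not_dvd_index_of_central (hc d hd hne.1 hne.2) y (hy ▸ hdm)
  · left
    intro d hd hdm
    by_contra hne
    haveI := Fact.mk hd
    refine not_dvd_index_of_central (fun x hx => ?_) y (hy ▸ hdm)
    by_contra hxn
    exact hnc ⟨d, x, hd, hne, hxn, hx⟩

/-- the ratio is a prime power -/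
theorem Sizes.ratio_prime (hns : ¬ Group.IsSolvable G) {x y : G} (hx : x ∉ center G) (hy : y ∉ center G)
    (hlt : centralizer ({y} : Set G) < centralizer ({x} : Set G)) :
    ∃ ρ, ρ.Prime ∧ ∀ d : ℕ, d.Prime → d ∣ r → d = ρ := by
  obtain ⟨u, x', hx', -, hxm, hle⟩ := exists_part hx
  obtain ⟨hcs, hclc⟩ := S.of_lt hx hy hlt
  haveI := Fact.mk hx'.1
  have heq : centralizer ({x} : Set G) = centralizer ({x'} : Set G) :=
    eq_of_le_of_card_ge hle (hcs ▸ S.card_le hx'.2.1)
  rw [heq] at hlt hcs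
  set C := centralizer ({x'} : Set G)
  have hyC : y ∈ C := hlt.le (mem_cen.2 (Commute.refl y))
  have hyr : (centralizer ({(⟨y, hyC⟩ : C)} : Set C)).index = r := by
    have h := index_inside (⟨y, hyC⟩ : C)
    rw [inf_of_le_right hlt.le, hclc, hcs, hr] at h
    exact Nat.eq_of_mul_eq_mul_right (hclc ▸ Nat.card_pos) h
  have htwo : Cfsg.Lib.SolvStruct.TwoRegular.Two u r C := by
    intro g hg hgn
    have hcop : (orderOf x').Coprime (orderOf (g : G)) := by
      obtain ⟨i, hi⟩ := hx'.2.2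
      rw [Subgroup.orderOf_coe]
      exact Nat.Coprime.coprime_dvd_left (orderOf_dvd_of_pow_eq_one hi) (hg.symm.pow_left i)
    rcases S.index_coprime hr hr1 hx'.2.1 g.2 hcop with h | h
    · exact absurd (mem_center_iff.2 fun c => by
        have := index_eq_one.1 h ▸ mem_top c
        exact (mem_cen.1 this).eq) hgn
    · exact h
  rcases ratio_cases htwo _ hyr with h | ⟨q, hq, hc, hd⟩
  · exact ⟨u, hx'.1, h⟩
  obtain ⟨p, hpu, hpq, z, hz⟩ := exists_third hns hx'.1 hq
  haveI := Fact.mk hz.1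
  have hpr : ¬ p ∣ r := fun e => by rcases hd p hz.1 e with e | e <;> contradiction
  obtain ⟨a, haC, ha⟩ := S.exists_mem hr hr1 hz hpr hx'.2.1
  have hac : ∀ c : C, (c : G) ∈ centralizer ({a} : Set G) := by
    intro c
    obtain ⟨i, hi⟩ := ha.2.2
    exact mem_cen.2 (congrArg Subtype.val (mem_center_iff.1 (hc p hz.1 hpu hpq ⟨a, haC⟩ ⟨i, Subtype.ext hi⟩) c))
  have hCa : C = centralizer ({a} : Set G) :=
    eq_of_le_of_card_ge (fun c hc' => hac ⟨c, hc'⟩) (hcs ▸ S.card_le ha.2.1)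
  have hall : ∀ g : C, g ∉ center C → (centralizer ({g} : Set C)).index = r := by
    intro g hgn
    obtain ⟨b, c, hb, hcz, hbc, ⟨k, hk⟩, hcp⟩ := Cfsg.Lib.Transfer.exists_pPart p g
    have hbZ : b ∈ center C := hc p hz.1 hpu hpq b ⟨k, by rw [← hk, pow_orderOf_eq_one]⟩
    have hcent : centralizer ({g} : Set C) = centralizer ({c} : Set C) := by
      rw [← hbc, centralizer_mul_center hbZ]
    have hcn : c ∉ center C := fun e => hgn (hbc ▸ mul_mem hbZ e)
    rw [hcent]
    have hidx : ∀ (D : Subgroup G) (_ : D = centralizer ({a} : Set G)) (c : D), (orderOf (c : G)).Coprime p →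
        (centralizer ({c} : Set D)).index = 1 ∨ (centralizer ({c} : Set D)).index = r := by
      rintro D rfl c hc'
      obtain ⟨i, hi⟩ := ha.2.2
      exact S.index_coprime hr hr1 ha.2.1 c.2 (Nat.Coprime.coprime_dvd_left (orderOf_dvd_of_pow_eq_one hi)
        (hc'.symm.pow_left i))
    rcases hidx C hCa c (by rwa [Subgroup.orderOf_coe]) with h | h
    · exact absurd (mem_center_iff.2 fun d => (mem_cen.1 (index_eq_one.1 h ▸ mem_top d)).eq) hcn
    · exact h
  obtain ⟨p0, hp0, hp0p⟩ := Nat.exists_infinite_primes (Nat.card C + 1)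
  haveI := Fact.mk hp0p
  have hrC : r ∣ Nat.card C := hyr ▸ Subgroup.index_dvd_card _
  have hp0r : ¬ p0 ∣ r := fun e => by
    have := Nat.le_of_dvd Nat.card_pos (e.trans hrC)
    omega
  rcases ratio_cases (p := p0) (m := r) (fun g _ hg => hall g hg) _ hyr with h | ⟨q', hq', -, hd'⟩
  · obtain ⟨d, hd1, hd2⟩ := Nat.exists_prime_and_dvd (show r ≠ 1 by omega)
    exact absurd (h d hd1 hd2 ▸ hd2) hp0r
  · exact ⟨q', hq', fun d h1 h2 => (hd' d h1 h2).resolve_left fun e => hp0r (e ▸ h2)⟩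

variable {ρ : ℕ} (hρ : ρ.Prime) (hrρ : ∀ d : ℕ, d.Prime → d ∣ r → d = ρ)
include hρ hrρ

theorem Sizes.central_of_ne {p t : ℕ} {a b : G} (ha : PP p a) (hb : PP t b) (hpρ : p ≠ ρ) (htρ : t ≠ ρ)
    (htp : t ≠ p) (hab : b ∈ centralizer ({a} : Set G)) {c : G} (hcC : c ∈ centralizer ({a} : Set G)) :
    Commute c b := by
  haveI := Fact.mk ha.1
  haveI := Fact.mk hb.1
  set C := centralizer ({a} : Set G)
  obtain ⟨P⟩ : Nonempty (Sylow p C) := inferInstance
  have hcl : ∀ g : C, (orderOf g).Coprime p → (centralizer ({g} : Set C)).index ∣ r := by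
    intro g hg
    obtain ⟨i, hi⟩ := ha.2.2
    rcases S.index_coprime hr hr1 ha.2.1 g.2 (Nat.Coprime.coprime_dvd_left (orderOf_dvd_of_pow_eq_one hi)
      (by rw [Subgroup.orderOf_coe]; exact hg.symm.pow_left i)) with h | h
    · exact h ▸ one_dvd r
    · exact h.dvd
  obtain ⟨hPn, H, hHn, hHp, hPH, hPHt⟩ := Cfsg.Agent.S4035.result (fun g hg hd => hpρ (hrρ p ha.1 (by
    rw [Cfsg.Agent.S4034.carrier_ncard] at hd
    exact hd.trans (hcl g hg)))) P
  haveI := hPn
  haveI := hHn
  set b' : C := ⟨b, hab⟩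
  obtain ⟨j, hj⟩ := hb.2.2
  have hb'o : b' ^ t ^ j = 1 := Subtype.ext hj
  have hbH : b' ∈ H := by
    have hidx : ∃ e, H.index = p ^ e := by
      obtain ⟨e, he⟩ := IsPGroup.iff_card.1 P.2
      refine ⟨e, ?_⟩
      rw [← he]
      exact (Subgroup.isComplement'_of_disjoint_and_mul_eq_univ (disjoint_iff.2 hPH)
        (by rw [← Subgroup.normal_mul, hPHt, coe_top])).index_eq_card
    obtain ⟨e, he⟩ := hidx
    refine (QuotientGroup.eq_one_iff (N := H) b').1 (eq_one_of_two_kinds ha.1 hb.1 htp.symm (i := e) (j := j) ?_ ?_)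
    · rw [← he, Subgroup.index_eq_card]; exact pow_card_eq_one'
    · rw [← QuotientGroup.mk_pow, hb'o, QuotientGroup.mk_one]
  have hHreg : ∀ h : H, (centralizer ({h} : Set H)).index ∣ r := by
    intro h
    have hop : (orderOf (h : C)).Coprime p :=
      Nat.Coprime.coprime_dvd_left (H.orderOf_dvd_natCard h.2) ((ha.1.coprime_iff_not_dvd.2 hHp).symm)
    refine (dvd_trans ?_ (Cfsg.Lib.Components.relIndex_dvd_index_of_normal_right _ H)).trans (hcl (h : C) hop)
    refine index_dvd_of_le fun c hc => ?_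
    rw [mem_subgroupOf, mem_cen] at hc
    exact mem_cen.2 (Subtype.ext hc.eq)
  obtain ⟨T⟩ : Nonempty (Sylow t H) := inferInstance
  obtain ⟨hTn, K, hKn, hKt, hTK, hTKt⟩ := Cfsg.Agent.S4035.result (fun g _ hd => htρ (hrρ t hb.1 (by
    rw [Cfsg.Agent.S4034.carrier_ncard] at hd
    exact hd.trans (hHreg g)))) T
  haveI := hTn
  haveI := hKn
  set bH : H := ⟨b', hbH⟩
  have hbT : bH ∈ (T : Subgroup H) := by
    obtain ⟨Q, hQ⟩ := (Cfsg.Lib.SolvStruct.TwoRegular.isPGroup_zpowers' hb.1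
      (x := bH) ⟨j, Subtype.ext hb'o⟩).exists_le_sylow
    haveI := Sylow.unique_of_normal T hTn
    rw [Subsingleton.elim T Q]
    exact hQ (mem_zpowers bH)
  have hTc : ∀ x ∈ (T : Subgroup H), Commute x bH := by
    intro x hx
    have h1 : (centralizer ({bH} : Set H)).relIndex T ∣ r :=
      (Cfsg.Lib.Components.relIndex_dvd_index_of_normal_right _ _).trans (hHreg bH)
    have h2 : (centralizer ({bH} : Set H)).relIndex T ∣ Nat.card (T : Subgroup H) :=
      Subgroup.index_dvd_card _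
    have h3 : (centralizer ({bH} : Set H)).relIndex T = 1 := by
      obtain ⟨e, he⟩ := IsPGroup.iff_card.1 T.2
      refine Nat.eq_one_of_dvd_coprimes ?_ (h2.trans he.dvd) h1
      exact ((hb.1.coprime_iff_not_dvd).2 fun e' => htρ (hrρ t hb.1 e')).pow_left e
    exact mem_cen.1 ((relIndex_eq_one.1 h3) hx)
  have hHc : ∀ h : H, Commute h bH := by
    intro h
    have hh : h ∈ (T : Subgroup H) ⊔ K := hTKt ▸ mem_top h
    rw [← SetLike.mem_coe, Subgroup.normal_mul] at hh
    obtain ⟨x, hx, k, hk, rfl⟩ := Set.mem_mul.1 hh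
    exact (hTc x hx).mul_left
      (Subgroup.commute_of_normal_of_disjoint _ _ hTn hKn (disjoint_iff.2 hTK) _ _ hbT hk).symm
  have hall : (⟨c, hcC⟩ : C) ∈ (P : Subgroup C) ⊔ H := hPHt ▸ mem_top _
  rw [← SetLike.mem_coe, Subgroup.normal_mul] at hall
  obtain ⟨x, hx, h, hh, e⟩ := Set.mem_mul.1 hall
  have h1 : Commute x b' :=
    Subgroup.commute_of_normal_of_disjoint _ _ hPn hHn (disjoint_iff.2 hPH) _ _ hx hbH
  have h2 : Commute h b' := congrArg Subtype.val (hHc ⟨h, hh⟩).eq
  have h3 : Commute (⟨c, hcC⟩ : C) b' := e ▸ h1.mul_left h2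
  exact congrArg Subtype.val h3.eq

theorem Sizes.isTI (hns : ¬ Group.IsSolvable G) : TI G (fun p => p ≠ ρ ∧ ∃ x : G, PP p x) := by
  have hnd : ∀ p, p ≠ ρ → p.Prime → ¬ p ∣ r := fun p h hp e => h (hrρ p hp e)
  have heq : ∀ p t : ℕ, p ≠ ρ → t ≠ ρ → t ≠ p → ∀ a b : G, PP p a → PP t b → Commute a b →
      centralizer ({b} : Set G) = centralizer ({a} : Set G) := by
    intro p t hp ht htp a b ha hb hab
    have hba : b ∈ centralizer ({a} : Set G) := mem_cen.2 hab.symm
    have hab' : a ∈ centralizer ({b} : Set G) := mem_cen.2 hab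
    exact le_antisymm (fun c hc => mem_cen.2 (S.central_of_ne hr hr1 hρ hrρ hb ha ht hp htp.symm hab' hc))
      (fun c hc => mem_cen.2 (S.central_of_ne hr hr1 hρ hrρ ha hb hp ht htp hba hc))
  refine ⟨?_, ?_, ?_⟩
  · intro p t hp ht a b ha hb hab
    by_cases htp : t = p
    · subst htp
      obtain ⟨s, hsp, hsρ, z, hz⟩ := exists_third hns ha.1 hρ
      obtain ⟨c, hc, hcs⟩ := S.exists_mem hr hr1 hz (hnd s hsρ hz.1) ha.2.1
      have h1 := heq t s hp.1 hsρ hsp a c ha hcs (mem_cen.1 hc).symm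
      have hb' : b ∈ centralizer ({c} : Set G) := h1 ▸ mem_cen.2 hab.symm
      rw [heq s t hsρ hp.1 hsp.symm c b hcs hb (mem_cen.1 hb').symm, h1]
    · exact heq p t hp.1 ht.1 htp a b ha hb hab
  · intro p t hp ht a ha
    obtain ⟨z, hz⟩ := ht.2
    exact S.dvd_index hr hr1 hz (hnd t ht.1 hz.1) ha.2.1
  · intro p t hp ht a ha
    obtain ⟨z, hz⟩ := ht.2
    exact S.exists_mem hr hr1 hz (hnd t ht.1 hz.1) ha.2.1

omit hr hr1 hρ hrρ in
/-- the nested case -/
theorem Sizes.solvable_of_lt {x y : G} (hx : x ∉ center G) (hy : y ∉ center G)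
    (hlt : centralizer ({y} : Set G) < centralizer ({x} : Set G)) : Group.IsSolvable G := by
  by_contra hns
  obtain ⟨e1, e2⟩ := S.of_lt hx hy hlt
  obtain ⟨r, hr'⟩ : cl ∣ cs := e1 ▸ e2 ▸ card_dvd_of_le hlt.le
  have hr : cs = r * cl := by rw [hr', mul_comm]
  have hr1 : 1 < r := by
    by_contra hle
    have := S.lt
    rw [hr] at this
    exact absurd (Nat.mul_le_mul_right cl (not_lt.1 hle)) (by omega)
  obtain ⟨ρ, hρ, hrρ⟩ := S.ratio_prime hr hr1 hns hx hy hlt
  have H := S.isTI hr hr1 hρ hrρ hns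
  obtain ⟨v, hv⟩ := exists_PP_two hns
  by_cases h2 : ρ = 2
  swap
  · obtain ⟨p, hp2, hpρ, hp⟩ := exists_third hns Nat.prime_two hρ
    exact not_TI_two H ⟨Ne.symm h2, v, hv⟩ ⟨hpρ, hp⟩ hp2 ⟨v, hv⟩
  subst h2
  refine hns (isSolvable_of_quotient (Cfsg.Lib.RealSize.isSolvable_of_no_real _ fun z hz1 hzo hzc => ?_))
  obtain ⟨gq, hgq⟩ := isConj_iff.1 hzc
  obtain ⟨p, hp, hpd⟩ := Nat.exists_prime_and_dvd (n := orderOf z) (fun e => hz1 (orderOf_eq_one_iff.1 e))
  haveI := Fact.mk hp
  have hp2 : p ≠ 2 := fun e => Nat.not_even_iff_odd.2 hzo (even_iff_two_dvd.2 (e ▸ hpd))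
  obtain ⟨z', hz'⟩ := QuotientGroup.mk'_surjective (center G) z
  obtain ⟨g, hg⟩ := QuotientGroup.mk'_surjective (center G) gq
  obtain ⟨i, m, hm, hzn⟩ := Nat.exists_eq_pow_mul_and_not_dvd (orderOf_pos z').ne' p hp.ne_one
  have hzm : z ^ m ≠ 1 := fun e => hm (hpd.trans (orderOf_dvd_of_pow_eq_one e))
  have ha : PP p (z' ^ m) := by
    refine ⟨hp, fun e => hzm ?_, i, by rw [← pow_mul, mul_comm, ← hzn, pow_orderOf_eq_one]⟩
    rw [← hz', ← map_pow]; exact (QuotientGroup.eq_one_iff _).2 e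
  obtain ⟨t, htp, ht2, ht⟩ := exists_third hns hp Nat.prime_two
  refine H.no_real ⟨hp2, _, ha⟩ ⟨ht2, ht⟩ htp.symm hp2 ht2 ha (g := g) ((QuotientGroup.eq_one_iff _).1 ?_)
  show QuotientGroup.mk' (center G) _ = 1
  rw [map_mul, map_mul, map_mul, map_inv, map_pow, hz', hg, ← conj_pow, hgq, inv_pow, inv_mul_cancel]

end Cfsg.Lib.ItoRankTwo
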