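import Cfsg.Agent.ItoRankTwo.Basic

/-!
# Commuting noncentral elements with equal centralisers: two contradictions
-/

set_option autoImplicit false
set_option linter.unusedSectionVars false
set_option linter.style.haveILetI false

namespace Cfsg.Lib.ItoRankTwo

open Subgroup

universe u

variable {G : Type u} [Group G] [Finite G]

/-- commuting noncentral `T`-elements have equal centralisers, which contain all `T`-primes and no full Sylow
subgroup -/
structure TI (G : Type u) [Group G] (T : ℕ → Prop) : Prop where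
  eq : ∀ p t : ℕ, T p → T t → ∀ a b : G, PP p a → PP t b → Commute a b →
    centralizer ({b} : Set G) = centralizer ({a} : Set G)
  notfull : ∀ p t : ℕ, T p → T t → ∀ a : G, PP p a → t ∣ (centralizer ({a} : Set G)).index
  mem : ∀ p t : ℕ, T p → T t → ∀ a : G, PP p a → ∃ b ∈ centralizer ({a} : Set G), PP t b

variable {T : ℕ → Prop} (H : TI G T)
include H

/-- `T`-elements of `C(a)` are central in it -/
theorem TI.central {p t : ℕ} (hp : T p) (ht : T t) {a b c : G} (ha : PP p a)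
    (hb : b ∈ centralizer ({a} : Set G)) (hbt : ∃ i, b ^ t ^ i = 1) (htp : t.Prime)
    (hc : c ∈ centralizer ({a} : Set G)) : Commute c b := by
  by_cases hbc : b ∈ center G
  · exact mem_center_iff.1 hbc c
  · rw [← H.eq p t hp ht a b ha ⟨htp, hbc, hbt⟩ (mem_cen.1 hb).symm] at hc
    exact mem_cen.1 hc

theorem TI.eq_of_mem {p t : ℕ} (hp : T p) (ht : T t) {a b : G} (ha : PP p a) (hb : PP t b)
    (h : b ∈ centralizer ({a} : Set G)) : centralizer ({b} : Set G) = centralizer ({a} : Set G) :=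
  H.eq p t hp ht a b ha hb (mem_cen.1 h).symm

/-- the `t`-elements of `C(a)` -/
theorem TI.exists_group {p t : ℕ} (hp : T p) (ht : T t) (htp : t.Prime) {a : G} (ha : PP p a) :
    ∃ W : Subgroup G, IsPGroup t W ∧ W ≤ centralizer ({a} : Set G) ∧
      ∀ x ∈ centralizer ({a} : Set G), (∃ i, x ^ t ^ i = 1) → x ∈ W := by
  refine ⟨Cfsg.Lib.SolvStruct.TwoRegular.Tl t (centralizer ({a} : Set G)), ?_, fun x hx => hx.1, ?_⟩
  · rintro ⟨x, hx⟩
    obtain ⟨i, hi⟩ := hx.2.2
    exact ⟨i, Subtype.ext hi⟩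
  · intro x hx hxi
    exact ⟨hx, fun c hc => (H.central hp ht ha hx hxi htp hc).eq, hxi⟩

theorem TI.norm_iff {p : ℕ} (hp : T p) {a g : G} (ha : PP p a) (h : g * a * g⁻¹ ∈ centralizer ({a} : Set G)) :
    g ∈ normalizer ((centralizer ({a} : Set G) : Subgroup G) : Set G) :=
  mem_normalizer_of_eq (H.eq_of_mem hp hp ha (ha.conj g) h)

/-- a `t`-element outside `C(a)` normalising it -/
theorem TI.exists_norm {p t : ℕ} (hp : T p) (ht : T t) {a : G} (ha : PP p a) :
    ∃ w : G, w ∉ centralizer ({a} : Set G) ∧ w ∈ normalizer ((centralizer ({a} : Set G) : Subgroup G) : Set G) ∧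
      ∃ i, w ^ t ^ i = 1 := by
  obtain ⟨b, hb, hbt⟩ := H.mem p t hp ht a ha
  haveI := Fact.mk hbt.1
  obtain ⟨W, hW, hWle, hWall⟩ := H.exists_group hp ht hbt.1 ha
  obtain ⟨P, hP⟩ := hW.exists_le_sylow
  have hlt : W < (P : Subgroup G) := by
    refine lt_of_le_of_ne hP fun e => P.not_dvd_index ?_
    exact (H.notfull p t hp ht a ha).trans (index_dvd_of_le (e ▸ hWle))
  have hlt' : W.subgroupOf (P : Subgroup G) < ⊤ := lt_top_iff_ne_top.2 fun e =>
    hlt.not_ge (Subgroup.subgroupOf_eq_top.1 e)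
  haveI : Group.IsNilpotent (P : Subgroup G) := P.2.isNilpotent
  obtain ⟨w, hwN, hwW⟩ := SetLike.exists_of_lt (Group.normalizerCondition_of_isNilpotent _ hlt')
  obtain ⟨i, hi⟩ := P.2 w
  have hwi : (w : G) ^ t ^ i = 1 := congrArg Subtype.val hi
  refine ⟨(w : G), fun hwC => hwW (mem_subgroupOf.2 (hWall _ hwC ⟨i, hwi⟩)), ?_, i, hwi⟩
  have hbW : b ∈ W := hWall b hb hbt.2.2
  have h1 := mem_subgroupOf.1 ((mem_normalizer_iff.1 hwN ⟨b, hP hbW⟩).1 (mem_subgroupOf.2 hbW))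
  have h2 : (w : G) * b * (w : G)⁻¹ ∈ centralizer ({b} : Set G) := by
    rw [H.eq_of_mem hp ht ha hbt hb]; exact hWle h1
  rw [← H.eq_of_mem hp ht ha hbt hb]
  exact H.norm_iff ht hbt h2

/-- a `t`-element normalising `C(a)` centralises some noncentral `t`-element of it modulo the centre -/
theorem TI.exists_fix {p t : ℕ} (hp : T p) (ht : T t) {a w : G} (ha : PP p a)
    (hw : w ∈ normalizer ((centralizer ({a} : Set G) : Subgroup G) : Set G)) (hwi : ∃ i, w ^ t ^ i = 1) :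
    ∃ v ∈ centralizer ({a} : Set G), PP t v ∧ w * v * w⁻¹ * v⁻¹ ∈ center G := by
  obtain ⟨b, hb, hbt⟩ := H.mem p t hp ht a ha
  haveI := Fact.mk hbt.1
  obtain ⟨W, hW, hWle, hWall⟩ := H.exists_group hp ht hbt.1 ha
  have hwW : w ∈ normalizer (W : Set G) := by
    refine mem_normalizer_iff.2 fun x => ⟨fun hx => hWall _ ((mem_normalizer_iff.1 hw x).1 (hWle hx)) ?_,
      fun hx => hWall _ ((mem_normalizer_iff.1 hw x).2 (hWle hx)) ?_⟩
    · obtain ⟨i, hi⟩ := hW ⟨x, hx⟩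
      exact ⟨i, by rw [conj_pow, show x ^ t ^ i = 1 from congrArg Subtype.val hi, mul_one, mul_inv_cancel]⟩
    · obtain ⟨i, hi⟩ := hW ⟨_, hx⟩
      refine ⟨i, ?_⟩
      have : (w * x * w⁻¹) ^ t ^ i = 1 := congrArg Subtype.val hi
      rw [conj_pow] at this
      exact conj_eq_one_iff.1 this
  have hle : zpowers w ≤ normalizer (W : Set G) := zpowers_le.2 hwW
  have hD : IsPGroup t (zpowers w ⊔ W : Subgroup G) :=
    (Cfsg.Lib.SolvStruct.TwoRegular.isPGroup_zpowers' hbt.1 hwi).to_sup_of_normal_right' hW hle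
  obtain ⟨v, hv, hvt, hcomm⟩ := exists_fixed hD le_sup_right (sup_le hle le_normalizer)
    (fun h => hbt.2.1 (h (hWall b hb hbt.2.2)))
  exact ⟨v, hWle hv, hvt, hcomm w (mem_sup_left (mem_zpowers w))⟩

/-- an element with square in `C(a)` normalising but not in it inverts its `T`-parts modulo the centre -/
theorem TI.invert {p q : ℕ} (hp : T p) (hq : T q) {a b x : G} (ha : PP p a) (hb : PP q b)
    (hbC : b ∈ centralizer ({a} : Set G))
    (hx : x ∈ normalizer ((centralizer ({a} : Set G) : Subgroup G) : Set G))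
    (hxC : x ∉ centralizer ({a} : Set G)) (hx2 : x * x ∈ centralizer ({a} : Set G)) :
    x * b * x⁻¹ * b ∈ center G := by
  have hb' : x * b * x⁻¹ ∈ centralizer ({a} : Set G) := (mem_normalizer_iff.1 hx b).1 hbC
  have hcomm : Commute (x * b * x⁻¹) b := H.central hp hq ha hbC hb.2.2 hb.1 hb'
  have h2 : x * x * b = b * (x * x) := (H.central hp hq ha hbC hb.2.2 hb.1 hx2).eq
  set c := x * b * x⁻¹ * b with hcd
  by_contra hc
  have hcx : Commute x c := by
    show x * c = c * x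
    have h3 : x * c * x⁻¹ = c := by
      calc x * c * x⁻¹ = x * x * b * (x * x)⁻¹ * (x * b * x⁻¹) := by rw [hcd]; group
        _ = b * (x * b * x⁻¹) := by rw [h2]; group
        _ = c := hcomm.symm.eq
    exact mul_inv_eq_iff_eq_mul.1 h3
  have hcq : PP q c := ⟨hb.1, hc, pow_mul_of_commute (hb.conj x).2.2 hb.2.2 hcomm⟩
  exact hxC (H.eq_of_mem hp hq ha hcq (mul_mem hb' hbC) ▸ mem_cen.2 hcx)

/-- two commuting elements with central squares acting alike differ by an element of `C(a)` -/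
theorem TI.quotient_mem {p : ℕ} (hp : T p) (h2p : p ≠ 2) {a v v' : G} (ha : PP p a)
    (hv : v ∈ normalizer ((centralizer ({a} : Set G) : Subgroup G) : Set G))
    (hv' : v' ∈ normalizer ((centralizer ({a} : Set G) : Subgroup G) : Set G))
    (hvC : v ∉ centralizer ({a} : Set G)) (hv'C : v' ∉ centralizer ({a} : Set G))
    (hvi : ∃ i, v ^ 2 ^ i = 1) (hv'i : ∃ i, v' ^ 2 ^ i = 1)
    (hv2 : v * v ∈ center G) (hv'2 : v' * v' ∈ center G) (hc : Commute v v') :
    v' * v⁻¹ ∈ centralizer ({a} : Set G) := by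
  have hZ : center G ≤ centralizer ({a} : Set G) := center_le_centralizer _
  have haC : a ∈ centralizer ({a} : Set G) := mem_cen.2 (Commute.refl a)
  have h1 := H.invert hp hp ha ha haC hv hvC (hZ hv2)
  have h1' := H.invert hp hp ha ha haC hv' hv'C (hZ hv'2)
  set c := v * a * v⁻¹ * a
  set c' := v' * a * v'⁻¹ * a
  have hsq : v * v * a = a * (v * v) := (mem_center_iff.1 hv2 a).symm
  have hvinv : v⁻¹ * a * v = v * a * v⁻¹ := by
    calc v⁻¹ * a * v = v⁻¹ * (a * (v * v)) * v⁻¹ := by group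
      _ = v⁻¹ * (v * v * a) * v⁻¹ := by rw [hsq]
      _ = v * a * v⁻¹ := by group
  obtain ⟨i, hi⟩ := hvi
  refine mem_cen.2 (commute_of_coprime Nat.prime_two ha.1 h2p.symm
    (pow_mul_of_commute hv'i ⟨i, by rw [inv_pow, hi, inv_one]⟩ hc.symm.inv_right) ha.2.2 ?_)
  have e : v' * v⁻¹ * a * (v' * v⁻¹)⁻¹ * a⁻¹ = c * c'⁻¹ := by
    have hcc : ∀ g : G, g * c = c * g := fun g => mem_center_iff.1 h1 g
    calc v' * v⁻¹ * a * (v' * v⁻¹)⁻¹ * a⁻¹ = v' * (v⁻¹ * a * v) * v'⁻¹ * a⁻¹ := by group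
      _ = v' * (c * a⁻¹) * v'⁻¹ * a⁻¹ := by rw [hvinv]; simp [c, mul_assoc]
      _ = c * (v' * a⁻¹ * v'⁻¹ * a⁻¹) := by rw [← mul_assoc v' c, hcc v']; group
      _ = c * c'⁻¹ := by
        have hc' : v' * a * v'⁻¹ * a = a * (v' * a * v'⁻¹) :=
          (mem_cen.1 ((mem_normalizer_iff.1 hv' a).1 haC)).eq
        simp only [c']
        rw [hc']; group
  rw [e]
  exact mul_mem h1 (inv_mem h1')

theorem not_TI_two (h2 : T 2) {p : ℕ} (hp : T p) (h2p : p ≠ 2) (hex : ∃ x : G, PP 2 x) : False := by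
  haveI := Fact.mk Nat.prime_two
  -- at most one involution modulo the centre in each centraliser
  have huniq : ∀ v v' : G, PP 2 v → PP 2 v' → v * v ∈ center G → v' * v' ∈ center G → Commute v v' →
      v' * v⁻¹ ∈ center G := by
    intro v v' hv hv' hv2 hv'2 hc
    by_contra hu
    have hu2 : PP 2 (v' * v⁻¹) := ⟨Nat.prime_two, hu, pow_mul_of_commute hv'.2.2
      (hv.2.2.imp fun i hi => by rw [inv_pow, hi, inv_one]) hc.symm.inv_right⟩
    obtain ⟨W, hW, -, hWall⟩ := H.exists_group h2 h2 Nat.prime_two hv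
    have huC : v' * v⁻¹ ∈ centralizer ({v} : Set G) :=
      mul_mem (mem_cen.2 hc.symm) (inv_mem (mem_cen.2 (Commute.refl v)))
    have key : ∀ a : G, PP 2 a → v ∈ normalizer ((centralizer ({a} : Set G) : Subgroup G) : Set G) →
        v' ∈ normalizer ((centralizer ({a} : Set G) : Subgroup G) : Set G) →
        centralizer ({a} : Set G) ≠ centralizer ({v} : Set G) → False := by
      intro a ha hn hn' hne
      obtain ⟨b, hb, hbp⟩ := H.mem 2 p h2 hp a ha
      have hL := H.eq_of_mem h2 hp ha hbp hb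
      have hout : ∀ w, PP 2 w → centralizer ({w} : Set G) = centralizer ({v} : Set G) →
          w ∉ centralizer ({b} : Set G) := by
        intro w hw hwe hwa
        rw [hL] at hwa
        exact hne (by rw [← H.eq_of_mem h2 h2 ha hw hwa, hwe])
      have h1 := H.quotient_mem hp h2p hbp (v := v) (v' := v') (by rwa [hL]) (by rwa [hL])
        (hout v hv rfl) (hout v' hv' (H.eq_of_mem h2 h2 hv hv' (mem_cen.2 hc.symm))) hv.2.2 hv'.2.2 hv2 hv'2 hc
      rw [hL] at h1
      exact hne ((H.eq_of_mem h2 h2 ha hu2 h1).symm.trans (H.eq_of_mem h2 h2 hv hu2 huC))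
    obtain ⟨P, hP⟩ := hW.exists_le_sylow
    have hvP : v ∈ (P : Subgroup G) := hP (hWall v (mem_cen.2 (Commute.refl v)) hv.2.2)
    have hv'P : v' ∈ (P : Subgroup G) := hP (hWall v' (mem_cen.2 hc.symm) hv'.2.2)
    obtain ⟨a, haP, ha, hfix⟩ := exists_fixed P.2 le_rfl le_normalizer (fun h => hv.2.1 (h hvP))
    have hPN : ∀ g ∈ (P : Subgroup G), g ∈ normalizer ((centralizer ({a} : Set G) : Subgroup G) : Set G) := by
      intro g hg
      refine mem_normalizer_of_eq ?_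
      rw [show g * a * g⁻¹ = (g * a * g⁻¹ * a⁻¹) * a by group]
      exact centralizer_mul_center (hfix g hg) a
    by_cases hne : centralizer ({a} : Set G) = centralizer ({v} : Set G)
    swap
    · exact key a ha (hPN v hvP) (hPN v' hv'P) hne
    -- an element of `P` outside `C(a)` with square inside
    obtain ⟨h, hhP, hhC, hh2⟩ : ∃ h ∈ (P : Subgroup G), h ∉ centralizer ({a} : Set G) ∧
        h * h ∈ centralizer ({a} : Set G) := by
      obtain ⟨g, hg, hgC⟩ : ∃ g ∈ (P : Subgroup G), g ∉ centralizer ({a} : Set G) := by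
        by_contra hall
        push Not at hall
        exact P.not_dvd_index ((H.notfull 2 2 h2 h2 a ha).trans (index_dvd_of_le hall))
      have hk : ∃ k, g ^ 2 ^ k ∈ centralizer ({a} : Set G) := by
        obtain ⟨i, hi⟩ := P.2 ⟨g, hg⟩
        exact ⟨i, by rw [show g ^ 2 ^ i = 1 from congrArg Subtype.val hi]; exact one_mem _⟩
      classical
      obtain ⟨k, hk1⟩ : ∃ k, Nat.find hk = k + 1 := by
        refine ⟨Nat.find hk - 1, (Nat.succ_pred_eq_of_ne_zero fun e => hgC ?_).symm⟩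
        have := Nat.find_spec hk
        rwa [e, pow_zero, pow_one] at this
      refine ⟨g ^ 2 ^ k, pow_mem hg _, Nat.find_min hk (hk1 ▸ k.lt_succ_self), ?_⟩
      rw [← pow_add, ← two_mul, ← pow_succ', ← hk1]
      exact Nat.find_spec hk
    have hsq : ∀ g : G, g ∈ (P : Subgroup G) → g ∉ centralizer ({a} : Set G) →
        g * g ∈ centralizer ({a} : Set G) → g * g ∈ center G := by
      intro g hg hgC hg2
      by_contra hcon
      obtain ⟨i, hi⟩ := P.2 ⟨_, mul_mem hg hg⟩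
      have hpp : PP 2 (g * g) := ⟨Nat.prime_two, hcon, i, congrArg Subtype.val hi⟩
      exact hgC (H.eq_of_mem h2 h2 ha hpp hg2 ▸ mem_cen.2 ((Commute.refl g).mul_right (Commute.refl g)))
    have hh2Z := hsq h hhP hhC hh2
    have hh : PP 2 h := ⟨Nat.prime_two, fun hcc => hhC (center_le_centralizer _ hcc), by
      obtain ⟨i, hi⟩ := P.2 ⟨h, hhP⟩
      exact ⟨i, congrArg Subtype.val hi⟩⟩
    have hnh : ∀ w ∈ (P : Subgroup G), w ∈ centralizer ({a} : Set G) → w * w ∈ center G →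
        w ∈ normalizer ((centralizer ({h} : Set G) : Subgroup G) : Set G) := by
      intro w hwP hwC hw2
      have hwh : h * w * h⁻¹ ∈ centralizer ({a} : Set G) := (mem_normalizer_iff.1 (hPN h hhP) w).1 hwC
      have hout : w * h ∉ centralizer ({a} : Set G) := fun hm => hhC (by simpa using mul_mem (inv_mem hwC) hm)
      have h3 : w * h * (w * h) ∈ center G := by
        refine hsq _ (mul_mem hwP hhP) hout ?_
        rw [show w * h * (w * h) = w * (h * w * h⁻¹) * (h * h) by group]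
        exact mul_mem (mul_mem hwC hwh) hh2
      refine mem_normalizer_of_eq ?_
      have e : w * h * w⁻¹ = (w * h * (w * h) * (w * w)⁻¹ * (h * h)⁻¹) * h := by
        have hcw : ∀ g : G, g * (w * w)⁻¹ = (w * w)⁻¹ * g := fun g => mem_center_iff.1 (inv_mem hw2) g
        calc w * h * w⁻¹ = w * h * w * (w * w)⁻¹ := by group
          _ = w * h * w * (w * w)⁻¹ * (h * h * (h * h)⁻¹) := by group
          _ = w * h * w * (h * h) * (w * w)⁻¹ * (h * h)⁻¹ := by
            rw [← mul_assoc (w * h * w * (w * w)⁻¹), mul_assoc (w * h * w) (w * w)⁻¹, ← hcw (h * h), ← mul_assoc]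
          _ = w * h * (w * h) * h * (w * w)⁻¹ * (h * h)⁻¹ := by group
          _ = w * h * (w * h) * (w * w)⁻¹ * (h * h)⁻¹ * h := by
            rw [mul_assoc (w * h * (w * h)) h, hcw h, ← mul_assoc, mul_assoc (_ * (w * w)⁻¹) h,
              mem_center_iff.1 (inv_mem hh2Z) h, ← mul_assoc]
      rw [e]
      exact centralizer_mul_center (mul_mem (mul_mem h3 (inv_mem hw2)) (inv_mem hh2Z)) h
    refine key h hh (hnh v hvP (hne ▸ mem_cen.2 (Commute.refl v)) hv2)
      (hnh v' hv'P (hne ▸ mem_cen.2 hc.symm) hv'2) fun e => hhC ?_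
    rw [hne, ← e]
    exact mem_cen.2 (Commute.refl h)
  obtain ⟨x, hx⟩ := hex
  obtain ⟨w, hwC, hwN, hwi⟩ := H.exists_norm h2 hp hx
  have hk : ∃ k, x ^ 2 ^ k ∈ center G := by
    obtain ⟨i, hi⟩ := hx.2.2
    exact ⟨i, by rw [hi]; exact one_mem _⟩
  classical
  obtain ⟨k, hk1⟩ : ∃ k, Nat.find hk = k + 1 := by
    refine ⟨Nat.find hk - 1, (Nat.succ_pred_eq_of_ne_zero fun e => hx.2.1 ?_).symm⟩
    have := Nat.find_spec hk
    rwa [e, pow_zero, pow_one] at this
  set v := x ^ 2 ^ k with hvd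
  have hv : PP 2 v := ⟨Nat.prime_two, Nat.find_min hk (hk1 ▸ k.lt_succ_self), by
    obtain ⟨i, hi⟩ := hx.2.2
    exact ⟨i, by rw [hvd, ← pow_mul, mul_comm, pow_mul, hi, one_pow]⟩⟩
  have hv2 : v * v ∈ center G := by
    rw [hvd, ← pow_add, ← two_mul, ← pow_succ', ← hk1]; exact Nat.find_spec hk
  have hvC : v ∈ centralizer ({x} : Set G) := mem_cen.2 ((Commute.refl x).pow_left _)
  have hv' : PP 2 (w * v * w⁻¹) := hv.conj w
  have hv'2 : w * v * w⁻¹ * (w * v * w⁻¹) ∈ center G := by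
    rw [show w * v * w⁻¹ * (w * v * w⁻¹) = w * (v * v) * w⁻¹ by group, mem_center_iff.1 hv2 w,
      mul_inv_cancel_right]
    exact hv2
  have hc : Commute v (w * v * w⁻¹) :=
    (H.central h2 h2 hx hvC hv.2.2 Nat.prime_two ((mem_normalizer_iff.1 hwN v).1 hvC)).symm
  have h1 := huniq v _ hv hv' hv2 hv'2 hc
  exact hwC (H.eq_of_mem h2 h2 hx hv hvC ▸ mem_cen.2
    (commute_of_coprime (H.mem 2 p h2 hp x hx).choose_spec.2.1 Nat.prime_two h2p hwi hv.2.2 h1))

/-- no element of odd prime power order is inverted modulo the centre -/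
theorem TI.no_real {p t : ℕ} (hp : T p) (ht : T t) (hpt : p ≠ t) (hp2 : p ≠ 2) (ht2 : t ≠ 2) {a g : G}
    (ha : PP p a) (hg : g * a * g⁻¹ * a ∈ center G) : False := by
  have haC : a ∈ centralizer ({a} : Set G) := mem_cen.2 (Commute.refl a)
  set L := centralizer ({a} : Set G) with hLd
  set N := normalizer (L : Set G) with hNd
  set π := QuotientGroup.mk' (center G) with hπ
  have hmk : ∀ x y : G, x * a * x⁻¹ * y⁻¹ ∈ center G → π x * π a * (π x)⁻¹ = π y := by
    intro x y h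
    have := (QuotientGroup.eq_one_iff (N := center G) _).2 h
    rw [← map_inv, ← map_mul, ← map_mul, ← mul_inv_eq_one, ← map_inv π y, ← map_mul]
    exact this
  -- replace `g` by a 2-element
  obtain ⟨k, m, hm, hgn⟩ := Nat.exists_eq_pow_mul_and_not_dvd (orderOf_pos g).ne' 2 (by norm_num)
  set τ := g ^ m with hτd
  have hτ2 : ∃ i, τ ^ 2 ^ i = 1 := ⟨k, by rw [hτd, ← pow_mul, mul_comm, ← hgn, pow_orderOf_eq_one]⟩
  have hτa : τ * a * τ⁻¹ * a ∈ center G := by
    have h0 : π g * π a * (π g)⁻¹ = (π a)⁻¹ := by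
      rw [← map_inv π a]; exact hmk g a⁻¹ (by rwa [inv_inv])
    have h1 : ∀ n : ℕ, π g ^ n * π a * (π g ^ n)⁻¹ = π a ^ ((-1 : ℤ) ^ n) := by
      intro n
      induction n with
      | zero => simp
      | succ j ih =>
        calc π g ^ (j + 1) * π a * (π g ^ (j + 1))⁻¹ = π g * (π g ^ j * π a * (π g ^ j)⁻¹) * (π g)⁻¹ := by
              rw [pow_succ']; group
          _ = (π g * π a * (π g)⁻¹) ^ ((-1 : ℤ) ^ j) := by rw [ih, conj_zpow]
          _ = π a ^ ((-1 : ℤ) ^ (j + 1)) := by rw [h0, ← zpow_neg_one, ← zpow_mul, pow_succ']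
    refine (QuotientGroup.eq_one_iff (N := center G) _).1 ?_
    show π (τ * a * τ⁻¹ * a) = 1
    rw [map_mul, map_mul, map_mul, map_inv, hτd, map_pow, h1,
      (Nat.odd_iff.2 (by omega) : Odd m).neg_one_pow, zpow_neg_one, inv_mul_cancel]
  have hτconj : τ * a * τ⁻¹ = (τ * a * τ⁻¹ * a) * a⁻¹ := by group
  have hτN : τ ∈ N := by
    refine H.norm_iff hp ha ?_
    rw [hτconj]
    exact mul_mem (center_le_centralizer _ hτa) (inv_mem haC)
  have hττ : τ * τ ∈ L := by
    obtain ⟨i, hi⟩ := hτ2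
    refine mem_cen.2 (commute_of_coprime Nat.prime_two ha.1 hp2.symm
      ⟨i, by rw [(Commute.refl τ).mul_pow, hi, one_mul]⟩ ha.2.2 ?_)
    set c := τ * a * τ⁻¹ * a with hcd
    have e : τ * τ * a * (τ * τ)⁻¹ * a⁻¹ = τ * (c * a⁻¹) * τ⁻¹ * a⁻¹ := by rw [hcd]; group
    rw [e, ← mul_assoc τ c, mem_center_iff.1 hτa τ]
    have e2 : c * τ * a⁻¹ * τ⁻¹ * a⁻¹ = c * (a * c * a⁻¹)⁻¹ := by rw [hcd]; group
    rw [e2, mem_center_iff.1 hτa a, mul_inv_cancel_right, mul_inv_cancel]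
    exact one_mem _
  have hτL : τ ∉ L := by
    intro h
    have h1 : τ * a * τ⁻¹ = a := mul_inv_eq_iff_eq_mul.2 (mem_cen.1 h).eq
    rw [h1] at hτa
    obtain ⟨i, hi⟩ := ha.2.2
    obtain ⟨j, hj⟩ : Odd (p ^ i) := (ha.1.odd_of_ne_two hp2).pow
    refine ha.2.1 ((inv_mem_iff (H := center G)).1 ?_)
    have h2 : a⁻¹ = (a * a) ^ j := by
      rw [← pow_two, ← pow_mul]
      refine inv_eq_of_mul_eq_one_right ?_
      rw [← pow_succ', ← hj]; exact hi
    rw [h2]
    exact pow_mem hτa j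
  obtain ⟨w, hwL, hwN, hwi⟩ := H.exists_norm hp hp ha
  obtain ⟨b, hb, hbt⟩ := H.mem p t hp ht a ha
  -- work in the normaliser modulo the centraliser
  set L' : Subgroup N := L.subgroupOf N
  haveI : L'.Normal := normal_subgroupOf_of_le_normalizer le_rfl
  set μ := QuotientGroup.mk' L'
  have hμ : ∀ {x : N}, μ x = 1 ↔ (x : G) ∈ L := fun {x} => QuotientGroup.eq_one_iff x
  set τN : N := ⟨τ, hτN⟩
  set wN : N := ⟨w, hwN⟩
  -- the kernel on the `t`-part
  let K : Subgroup N :=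
    { carrier := {x | ∀ c, c ∈ L → PP t c → π (x : G) * π c = π c * π (x : G)}
      one_mem' := fun c _ _ => by simp
      mul_mem' := fun {x y} hx hy c h1 h2 => by
        rw [Subgroup.coe_mul, map_mul, mul_assoc, hy c h1 h2, ← mul_assoc, hx c h1 h2, mul_assoc]
      inv_mem' := fun {x} hx c h1 h2 => by
        rw [Subgroup.coe_inv, map_inv]; exact (Commute.inv_left (hx c h1 h2)).eq }
  have hinv : ∀ c, c ∈ L → PP t c → π τ * π c * (π τ)⁻¹ = (π c)⁻¹ := by
    intro c h1 h2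
    refine eq_inv_of_mul_eq_one_left ?_
    rw [← map_inv, ← map_mul, ← map_mul, ← map_mul]
    exact (QuotientGroup.eq_one_iff _).2 (H.invert hp ht ha h2 h1 hτN hτL hττ)
  set kN : N := wN * τN * wN⁻¹ * τN⁻¹ with hkN
  have hkK : kN ∈ K := by
    intro c h1 h2
    have hc' : w⁻¹ * c * w ∈ L ∧ PP t (w⁻¹ * c * w) := by
      have := (mem_normalizer_iff.1 (inv_mem hwN) c).1 h1
      rw [inv_inv] at this
      exact ⟨this, by simpa using h2.conj w⁻¹⟩
    have e1 := hinv c h1 h2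
    have e2 := hinv _ hc'.1 hc'.2
    simp only [map_mul, map_inv] at e2
    have e3 : (π τ)⁻¹ * π c * π τ = (π c)⁻¹ := by
      calc (π τ)⁻¹ * π c * π τ = (π τ)⁻¹ * ((π c)⁻¹)⁻¹ * π τ := by rw [inv_inv]
        _ = (π τ)⁻¹ * (π τ * π c * (π τ)⁻¹)⁻¹ * π τ := by rw [e1]
        _ = (π c)⁻¹ := by group
    show π (kN : G) * π c = π c * π (kN : G)
    refine mul_inv_eq_iff_eq_mul.1 ?_
    simp only [hkN, Subgroup.coe_mul, Subgroup.coe_inv, map_mul, map_inv, τN, wN]
    calc π w * π τ * (π w)⁻¹ * (π τ)⁻¹ * π c * (π w * π τ * (π w)⁻¹ * (π τ)⁻¹)⁻¹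
        = π w * π τ * (π w)⁻¹ * ((π τ)⁻¹ * π c * π τ) * π w * (π τ)⁻¹ * (π w)⁻¹ := by group
      _ = π w * (π τ * ((π w)⁻¹ * π c * π w) * (π τ)⁻¹)⁻¹ * (π w)⁻¹ := by rw [e3]; group
      _ = π c := by rw [e2]; group
  have hKL : ∀ x ∈ K, (x : G) ^ orderOf b ∈ L := by
    intro x hx
    have h1 : (x : G) * b * (x : G)⁻¹ * b⁻¹ ∈ center G := by
      refine (QuotientGroup.eq_one_iff _).1 ?_
      show π _ = 1
      rw [map_mul, map_mul, map_mul, map_inv, map_inv, hx b hb hbt]; group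
    set z := (x : G) * b * (x : G)⁻¹ * b⁻¹ with hz
    have hb' : (x : G) * b * (x : G)⁻¹ = z * b := by rw [hz]; group
    have h2 : z ^ orderOf b = 1 := by
      have h3 : ((x : G) * b * (x : G)⁻¹) ^ orderOf b = 1 := by
        rw [conj_pow, pow_orderOf_eq_one, mul_one, mul_inv_cancel]
      rwa [hb', (show Commute z b from (mem_center_iff.1 h1 b).symm).mul_pow, pow_orderOf_eq_one, mul_one] at h3
    have h3 := conj_pow_central hb' h1 (orderOf b)
    rw [h2, one_mul] at h3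
    rw [hLd, ← H.eq_of_mem hp ht ha hbt hb, mem_cen]
    exact mul_inv_eq_iff_eq_mul.1 h3
  obtain ⟨j, hj⟩ : Odd (orderOf b) := by
    obtain ⟨i, hi⟩ := hbt.2.2
    exact Odd.of_dvd_nat ((hbt.1.odd_of_ne_two ht2).pow) (orderOf_dvd_of_pow_eq_one hi)
  set cN := kN ^ (j + 1)
  set w' : N := cN⁻¹ * wN with hw'd
  have hcomm : μ w' * μ τN = μ τN * μ w' := by
    have hk1 : μ kN ^ orderOf b = 1 := by
      rw [← map_pow, hμ, SubgroupClass.coe_pow]; exact hKL kN hkK
    have hT : (μ τN)⁻¹ = μ τN := by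
      refine inv_eq_of_mul_eq_one_right ?_
      rw [← map_mul, hμ]; exact hττ
    set T' := μ τN
    set k' := μ kN with hk'
    have hkd : k' = μ wN * T' * (μ wN)⁻¹ * T'⁻¹ := by rw [hk', hkN]; simp [T']
    have hflip : T' * k' * T'⁻¹ = k'⁻¹ := by
      rw [hkd]
      simp only [mul_inv_rev, inv_inv, hT]
      group
      have hTT : T' * T' = 1 := by rw [← inv_mul_cancel T', hT]
      rw [mul_assoc _ T' T', hTT, mul_one]
    have hflip' : T' * k' ^ (j + 1) * T'⁻¹ = (k' ^ (j + 1))⁻¹ := by rw [← conj_pow, hflip, inv_pow]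
    have hcT : k' ^ (j + 1) * T' * (k' ^ (j + 1))⁻¹ = μ wN * T' * (μ wN)⁻¹ := by
      calc k' ^ (j + 1) * T' * (k' ^ (j + 1))⁻¹ = k' ^ (j + 1) * T' * (T' * k' ^ (j + 1) * T'⁻¹) := by rw [hflip']
        _ = k' ^ (j + 1) * (T' * T') * k' ^ (j + 1) * T'⁻¹ := by group
        _ = k' ^ (2 * j + 1 + 1) * T'⁻¹ := by
          nth_rewrite 2 [← hT]
          rw [mul_inv_cancel, mul_one, ← pow_add]; ring_nf
        _ = μ wN * T' * (μ wN)⁻¹ := by
          rw [← hj, pow_succ, hk1, one_mul, hkd]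
          nth_rewrite 3 [← hT]
          group
    rw [hw'd, map_mul, map_inv, map_pow]
    calc (k' ^ (j + 1))⁻¹ * μ wN * T' = (k' ^ (j + 1))⁻¹ * (μ wN * T' * (μ wN)⁻¹) * μ wN := by group
      _ = T' * ((k' ^ (j + 1))⁻¹ * μ wN) := by rw [← hcT]; group
  -- the `p`-part of `w'`
  obtain ⟨i, n', hn', hord⟩ := Nat.exists_eq_pow_mul_and_not_dvd (orderOf_pos w').ne' p ha.1.ne_one
  set w₂ : N := w' ^ n'
  have hw₂i : ∃ i, (w₂ : G) ^ p ^ i = 1 := ⟨i, by
    rw [← SubgroupClass.coe_pow, ← pow_mul, mul_comm n', ← hord, pow_orderOf_eq_one, Subgroup.coe_one]⟩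
  haveI hKn : K.Normal := ⟨fun x hx y c h1 h2 => by
    have h1' : (y : G)⁻¹ * c * (y : G) ∈ L := by
      have := (mem_normalizer_iff.1 (inv_mem y.2) c).1 h1
      rwa [inv_inv] at this
    have := hx _ h1' (by simpa using h2.conj (y : G)⁻¹)
    simp only [map_mul, map_inv] at this
    simp only [Subgroup.coe_mul, Subgroup.coe_inv, map_mul, map_inv]
    calc π (y : G) * π (x : G) * (π (y : G))⁻¹ * π c
        = π (y : G) * (π (x : G) * ((π (y : G))⁻¹ * π c * π (y : G))) * (π (y : G))⁻¹ := by group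
      _ = π (y : G) * ((π (y : G))⁻¹ * π c * π (y : G) * π (x : G)) * (π (y : G))⁻¹ := by rw [this]
      _ = π c * (π (y : G) * π (x : G) * (π (y : G))⁻¹) := by group⟩
  have hL'K : ∀ x : N, (x : G) ∈ L → x ∈ K := fun x hx c h1 h2 => by
    rw [← map_mul, ← map_mul, (H.central hp ht ha h1 h2.2.2 h2.1 hx).eq]
  have hw₂L : (w₂ : G) ∉ L := by
    intro hmem
    have hcop : (orderOf w).Coprime n' := by
      obtain ⟨i, hi⟩ := hwi
      exact Nat.Coprime.coprime_dvd_left (orderOf_dvd_of_pow_eq_one hi)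
        ((ha.1.coprime_iff_not_dvd.2 hn').pow_left i)
    have hwK : wN ^ n' ∈ K := by
      have h1 : QuotientGroup.mk' K w' = QuotientGroup.mk' K wN := by
        have h0 : QuotientGroup.mk' K cN⁻¹ = 1 :=
          (QuotientGroup.eq_one_iff (N := K) cN⁻¹).2 (inv_mem (pow_mem hkK _))
        rw [hw'd, map_mul, h0, one_mul]
      refine (QuotientGroup.eq_one_iff (N := K) _).1 ?_
      show QuotientGroup.mk' K (wN ^ n') = 1
      rw [map_pow, ← h1, ← map_pow]
      exact (QuotientGroup.eq_one_iff _).2 (hL'K _ hmem)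
    obtain ⟨e, he⟩ := exists_pow_eq_self_of_coprime (x := w) (n := n') hcop.symm
    have hw1 : (w ^ n') ^ orderOf b ∈ L := by simpa [wN] using hKL _ hwK
    have hcop' : (orderOf w).Coprime (orderOf b) :=
      Cfsg.Lib.SolvStruct.TwoRegular.coprime_of_pow_eq ha.1 hbt.1 hpt hwi hbt.2.2
    obtain ⟨e', he'⟩ := exists_pow_eq_self_of_coprime (x := w ^ n') (n := orderOf b)
      (hcop'.symm.coprime_dvd_right (orderOf_pow_dvd n'))
    exact hwL (he ▸ pow_mem (he' ▸ pow_mem hw1 e') e)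
  have hl : μ τN * μ w₂ * (μ τN)⁻¹ = μ w₂ := by
    rw [mul_inv_eq_iff_eq_mul, show μ w₂ = μ w' ^ n' from map_pow μ w' n']
    exact ((show Commute (μ w') (μ τN) from hcomm).pow_left n').eq.symm
  rw [← map_inv, ← map_mul, ← map_mul, ← inv_mul_eq_one, ← map_inv, ← map_mul, hμ] at hl
  simp only [Subgroup.coe_mul, Subgroup.coe_inv, τN] at hl
  obtain ⟨v, hvL, hv, hvz⟩ := H.exists_fix hp hp ha w₂.2 hw₂i
  have hvinv : τ * v * τ⁻¹ * v ∈ center G := H.invert hp hp ha hv hvL hτN hτL hττ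
  -- conjugate the commutator relation by `τ`
  set x := (w₂ : G)
  set z := x * v * x⁻¹ * v⁻¹ with hzd
  have hz' : x * v * x⁻¹ = z * v := by rw [hzd]; group
  set l := (τ * x * τ⁻¹)⁻¹ * x with hld
  have hτx : τ * x * τ⁻¹ = x * l⁻¹ := by rw [hld]; group
  set c := τ * v * τ⁻¹ * v with hcd
  have hτv : τ * v * τ⁻¹ = c * v⁻¹ := by rw [hcd]; group
  have hlv : Commute l v := (H.central hp hp ha hvL hv.2.2 hv.1 hl)
  have hzc : ∀ y : G, y * z = z * y := fun y => mem_center_iff.1 hvz y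
  have hcc : ∀ y : G, y * c = c * y := fun y => mem_center_iff.1 hvinv y
  have key : z * z = 1 := by
    have A : τ * (x * v * x⁻¹) * τ⁻¹ = z * (c * v⁻¹) := by
      rw [hz', ← mul_assoc, hzc τ, mul_assoc z τ, mul_assoc, hτv]
    have B : τ * (x * v * x⁻¹) * τ⁻¹ = c * (x * v * x⁻¹)⁻¹ := by
      calc τ * (x * v * x⁻¹) * τ⁻¹ = (τ * x * τ⁻¹) * (τ * v * τ⁻¹) * (τ * x * τ⁻¹)⁻¹ := by group
        _ = x * l⁻¹ * (c * v⁻¹) * (x * l⁻¹)⁻¹ := by rw [hτx, hτv]
        _ = x * l⁻¹ * c * v⁻¹ * l * x⁻¹ := by group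
        _ = c * (x * (l⁻¹ * v⁻¹ * l) * x⁻¹) := by rw [hcc (x * l⁻¹)]; group
        _ = c * (x * v⁻¹ * x⁻¹) := by rw [mul_assoc l⁻¹, ← hlv.inv_right.eq, inv_mul_cancel_left]
        _ = c * (x * v * x⁻¹)⁻¹ := by group
    have h := A.symm.trans B
    rw [hz', ← mul_assoc, hcc z, mul_assoc] at h
    have h5 : z * v⁻¹ = v⁻¹ * z⁻¹ := by
      have := mul_left_cancel h
      rwa [mul_inv_rev] at this
    rw [mem_center_iff.1 (inv_mem hvz) v⁻¹] at h5
    exact mul_eq_one_iff_eq_inv.2 (mul_right_cancel h5)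
  have hzp : ∃ i, z ^ p ^ i = 1 := by
    obtain ⟨i, hi⟩ := hv.2.2
    refine ⟨i, ?_⟩
    have h3 : (x * v * x⁻¹) ^ p ^ i = 1 := by rw [conj_pow, hi, mul_one, mul_inv_cancel]
    rwa [hz', (show Commute z v from (hzc v).symm).mul_pow, hi, mul_one] at h3
  obtain ⟨i2, hi2⟩ := hzp
  have hz1 : z = 1 := eq_one_of_two_kinds (i := i2) (j := 1) ha.1 Nat.prime_two hp2 hi2
    (by rw [pow_one, pow_two]; exact key)
  rw [hz1, one_mul] at hz'
  refine hw₂L ?_
  rw [hLd, ← H.eq_of_mem hp hp ha hv hvL]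
  exact mem_cen.2 (mul_inv_eq_iff_eq_mul.1 hz')

end Cfsg.Lib.ItoRankTwo
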